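import Cfsg.Agent.Mrg.Omega.NOThreeL.NF.Final
import Cfsg.Agent.Mrg.Omega.NOThreeL.RTools.Two
import Cfsg.Agent.Mrg.Omega.NOne.LemmaT
import Cfsg.Agent.Mrg.Omega.Spread.ElatOf
import Cfsg.Agent.Mrg.Omega.NOne.Flat.Off
import Cfsg.Agent.Mrg.Omega.NOThreeL.NF.Nat

section


/-!
# THEOREM LOW (#19191, helper597): definitions and the statements of the parts

NO-3L with `C_Z(P) = 1` for all `P ∈ P*(S)` (`DataZ S`), not (A): `V* = ⟨Z^M₀⟩ ≤ Q = O₂(C_G(Z))`.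

* `Frm S V F` : the frame (P1): `F` a maximal bad subgroup of `V ≥ V*`, `W_F ≤ S`, `V* ≰ E`;
* `Sit S V F B P R p` : the situation after the gallery argument (P2), normalised so that the last chamber is `S`:
  `U = zl S P` is the bad line, `zl S R` the good line of the last panel, `p ∈ R`, `S^p` the last chamber but one,
  `B ⊴ C_G(F)` generated by good lines, `spp` = (S++);
* `Blk`, `Rtv`, `NSit` : the natural case (P7);
* `StP1`, …, `StP9` : the statements of the parts.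

Conjugation is on the left: `X^g` of the text is `MulAut.conj g • X`.
-/

set_option autoImplicit false

namespace Cfsg.Agent.Omega.NOThreeL.Low

open Subgroup Cfsg Cfsg.Agent.ZN Cfsg.Agent.Omega.MinPar Cfsg.Agent.Omega.Frame Cfsg.Agent.Omega.FrameNOFF
open Cfsg.Agent.Omega.NOThreeL.Basic (DataZ CaseA WP)
open Cfsg.Agent.Omega.NOThreeL.Merge (MZ)
open Cfsg.Agent.Omega.NOne.Flat (Hyp EE WW NN BadX)
open Cfsg.Agent.Omega.NOne.NearFF (c)
open Cfsg.Agent.Omega.FFThm (OffM NatKM SymKM)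
open Cfsg.Agent.Omega.NatPair (ap)
open Cfsg.Agent.Lib.SL2Mat (up)
open scoped Pointwise

universe u

section defs

variable {G : Type u} [Group G] [Finite G]

/-- **The frame** (output of P1). -/
structure Frm (S : Sylow 2 G) (V F : Subgroup G) : Prop where
  flat : Hyp V F
  VS : V ≤ (S : Subgroup G)
  /-- `V` is `M₀`-invariant -/
  nV : MZ (S : Subgroup G) ≤ normalizer (V : Set G)
  zV : zl (S : Subgroup G) (MZ (S : Subgroup G)) ≤ V
  WS : WW V F ≤ (S : Subgroup G)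
  ZF : zc (S : Subgroup G) ≤ F
  nle : ¬ zl (S : Subgroup G) (MZ (S : Subgroup G)) ≤ EE V F

/-- **The situation** (output of P2). -/
structure Sit (S : Sylow 2 G) (V F B P R : Subgroup G) (p : G) : Prop where
  ctx : Ctx G
  D : DataZ (S : Subgroup G)
  flat : Hyp V F
  VS : V ≤ (S : Subgroup G)
  hP : IsParS (S : Subgroup G) P
  hR : IsParS (S : Subgroup G) R
  UV : zl (S : Subgroup G) P ≤ V
  /-- `U = V_P` is bad -/
  bad : ¬ zl (S : Subgroup G) P ≤ EE V F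
  /-- `F ≤ B` (876's `BH`): the `B` of this structure is the `B F` of #19191 -/
  FB : F ≤ B
  BW : B ≤ WW V F
  /-- `B` is normal in `X = C_G(F)` -/
  XB : centralizer (F : Set G) ≤ normalizer (B : Set G)
  comm : B ≤ centralizer (B : Set G)
  sq : ∀ b ∈ B, b ^ 2 = 1
  BS : B ≤ (S : Subgroup G)
  CB : WW V F ⊓ centralizer (B : Set G) ≤ (S : Subgroup G)
  /-- the line of the last panel -/
  RV : zl (S : Subgroup G) R ≤ V
  RB : zl (S : Subgroup G) R ≤ B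
  pR : p ∈ R
  /-- the line of type `P` of the chamber `S^p` -/
  PV : MulAut.conj p • zl (S : Subgroup G) P ≤ V
  PB : MulAut.conj p • zl (S : Subgroup G) P ≤ B
  /-- **(S++)**: `Z^g` a point of `U`, `Z^(g' q)` a point of the line `V_Q^(g')` on `Z^g` -/
  spp : ∀ (g g' q : G) (Q : Subgroup G), g ∈ P →
    MulAut.conj g' • zc (S : Subgroup G) = MulAut.conj g • zc (S : Subgroup G) →
    IsParS (S : Subgroup G) Q → q ∈ Q → MulAut.conj (g' * q) • zc (S : Subgroup G) ⊓ F = ⊥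

end defs

/-! ### The natural case -/

section nat

variable {G : Type u} [Group G] {K : Type} [Field K] {S P U : Subgroup G} {k : ℕ}

/-- `v` lies in the block `N_i`. -/
def Blk (N : NatKM K S P U ⊥ k) (i : Fin k) (v : G) : Prop := v ∈ U ∧ ∀ j, j ≠ i → N.e v j = 0

/-- `v` lies in the root line `R_i = C_{N_i}(S)`. -/
def Rtv (N : NatKM K S P U ⊥ k) (i : Fin k) (v : G) : Prop := Blk N i v ∧ N.e v i 1 = 0

end nat

section nsit

variable {G : Type u} [Group G] [Finite G]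

/-- **The natural situation** at a bad block `i` (output of P7). -/
structure NSit (S : Sylow 2 G) (V F B P R : Subgroup G) (p : G) {K : Type} [Field K] {k : ℕ}
    (N : NatKM K (S : Subgroup G) P (zl (S : Subgroup G) P) ⊥ k) (i : Fin k) (β : G → K) : Prop
    extends Sit S V F B P R p where
  /-- the block is bad -/
  bad_i : ∃ w, Blk N i w ∧ w ∉ EE V F
  βmul : ∀ b ∈ B, ∀ c ∈ B, β (b * c) = β b + β c
  βsurj : ∀ x : K, ∃ b ∈ B, β b = x
  /-- `B ∩ N = C_B(N_i)` -/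
  βN : ∀ b ∈ B, β b = 0 ↔ b ∈ NN V F
  /-- `B` acts on `N_i` as the full root group -/
  act : ∀ b ∈ B, ∀ v, Blk N i v → Blk N i (b * v * b⁻¹) ∧ N.e (b * v * b⁻¹) i = ap (up (β b)) (N.e v i)
  /-- `N_i ∩ E = R_i` -/
  blkE : ∀ v, Blk N i v → (v ∈ EE V F ↔ N.e v i 1 = 0)
  /-- `N_i ∩ F = 1` -/
  blkF : ∀ v, Blk N i v → v ∈ F → v = 1
  /-- `R_i ≤ B` -/
  rtB : ∀ v, Rtv N i v → v ∈ B
  /-- all `R_j ≤ E` -/
  rtE : ∀ v ∈ zl (S : Subgroup G) P, (∀ j, N.e v j 1 = 0) → v ∈ EE V F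
  /-- `I = V ∩ B = R_i × F` -/
  I : ∀ a ∈ V ⊓ B, ∃ r, Rtv N i r ∧ r⁻¹ * a ∈ F
  card : (NN V F).relIndex B = Nat.card K
  /-- (*) `ζ ζ_i ∈ F` -/
  zF : ∀ z ∈ zc (S : Subgroup G), ∃ r, Rtv N i r ∧ N.e r i = N.e z i ∧ r⁻¹ * z ∈ F
  /-- no full-support vector of `U` is in `F` -/
  nfull : ∀ f ∈ F, f ∈ zl (S : Subgroup G) P → ∃ j, N.e f j = 0
  /-- full-support vectors of `U` are in points of `U` -/
  full : ∀ v ∈ zl (S : Subgroup G) P, (∀ j, N.e v j ≠ 0) → ∃ g ∈ P, v ∈ MulAut.conj g • zc (S : Subgroup G)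

/-- **The torus** (output of P8). -/
def Tor {S : Sylow 2 G} {P F : Subgroup G} {K : Type} [Field K] {k : ℕ}
    (N : NatKM K (S : Subgroup G) P (zl (S : Subgroup G) P) ⊥ k) (i : Fin k) : Prop :=
  ∀ l : K, l ≠ 0 → ∃ g ∈ centralizer (F : Set G), ∀ r, Rtv N i r →
    Rtv N i (g * r * g⁻¹) ∧ N.e (g * r * g⁻¹) i 0 = l * N.e r i 0

end nsit

/-! ### The statements of the parts -/

section parts

/-- **P1**: the frame. -/
def StP1 : Prop :=
  ∀ (G : Type u) [Group G] [Finite G], Ctx G → ∀ S : Sylow 2 G, Full (S : Subgroup G) → DataZ (S : Subgroup G) →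
    ¬ zl (S : Subgroup G) (MZ (S : Subgroup G)) ≤ o2 (CZ (S : Subgroup G)) → ∃ V F, Frm S V F

/-- **P3**: (S+). -/
def StP3 : Prop :=
  ∀ (G : Type u) [Group G] [Finite G], Ctx G → ∀ S : Sylow 2 G, DataZ (S : Subgroup G) →
    ¬ CaseA (S : Subgroup G) → ∀ V F : Subgroup G, Hyp V F → ∀ P Q : Subgroup G,
    IsParS (S : Subgroup G) P → IsParS (S : Subgroup G) Q → ∀ g g' q : G,
    MulAut.conj g' • zc (S : Subgroup G) = MulAut.conj g • zc (S : Subgroup G) → q ∈ Q →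
    MulAut.conj (g' * q) • zc (S : Subgroup G) ⊓ F ≠ ⊥ → MulAut.conj g • zl (S : Subgroup G) P ≤ V →
    MulAut.conj g • zl (S : Subgroup G) P ≤ EE V F

/-- **P2**: galleries. -/
def StP2 : Prop :=
  ∀ (G : Type u) [Group G] [Finite G], Ctx G → ∀ S : Sylow 2 G, Full (S : Subgroup G) →
    DataZ (S : Subgroup G) → ¬ CaseA (S : Subgroup G) → ∀ V F, Frm S V F → ∃ V F B P R p, Sit S V F B P R p

variable {G : Type u} [Group G] [Finite G] {S : Sylow 2 G} {V F B P R : Subgroup G} {p : G}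

/-- **P5**: `U` is an FF-module. -/
def StP5 : Prop :=
  ∀ (G : Type u) [Group G] [Finite G] (S : Sylow 2 G) (V F B P R : Subgroup G) (p : G), Sit S V F B P R p →
    ∃ A ≤ P, OffM (zl (S : Subgroup G) P) A

/-- **P6**: `U` is not of symmetric type. -/
def StP6 : Prop :=
  ∀ (G : Type u) [Group G] [Finite G] (S : Sylow 2 G) (V F B P R : Subgroup G) (p : G), Sit S V F B P R p →
    ∀ k m : ℕ, 0 < k → 2 ≤ m → SymKM (S : Subgroup G) P (zl (S : Subgroup G) P) ⊥ k m → False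

/-- **P7a**: `B` normalises every bad block and acts on it through the root group. -/
def StP7a : Prop :=
  ∀ (G : Type u) [Group G] [Finite G] (S : Sylow 2 G) (V F B P R : Subgroup G) (p : G), Sit S V F B P R p →
    ∀ (K : Type) [Field K] [Finite K] [CharP K 2] (k : ℕ)
      (N : NatKM K (S : Subgroup G) P (zl (S : Subgroup G) P) ⊥ k) (i : Fin k),
      (∃ w, Blk N i w ∧ w ∉ EE V F) → ∀ b ∈ B, ∃ x : K, ∀ v, Blk N i v →
        Blk N i (b * v * b⁻¹) ∧ N.e (b * v * b⁻¹) i = ap (up x) (N.e v i)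

/-- **P7b**: the natural situation. -/
def StP7b : Prop :=
  ∀ (G : Type u) [Group G] [Finite G] (S : Sylow 2 G) (V F B P R : Subgroup G) (p : G), Sit S V F B P R p →
    ∀ (K : Type) [Field K] [Finite K] [CharP K 2] (k : ℕ)
      (N : NatKM K (S : Subgroup G) P (zl (S : Subgroup G) P) ⊥ k), 0 < k →
      (∀ i : Fin k, (∃ w, Blk N i w ∧ w ∉ EE V F) → ∀ b ∈ B, ∃ x : K, ∀ v, Blk N i v →
        Blk N i (b * v * b⁻¹) ∧ N.e (b * v * b⁻¹) i = ap (up x) (N.e v i)) →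
      ∃ (i : Fin k) (β : G → K), NSit S V F B P R p N i β

/-- **P8**: the torus. -/
def StP8 : Prop :=
  ∀ (G : Type u) [Group G] [Finite G] (S : Sylow 2 G) (V F B P R : Subgroup G) (p : G)
    (K : Type) [Field K] [Finite K] [CharP K 2] (k : ℕ)
    (N : NatKM K (S : Subgroup G) P (zl (S : Subgroup G) P) ⊥ k) (i : Fin k) (β : G → K),
    NSit S V F B P R p N i β → Tor (F := F) N i

/-- **P9a**: (CE) `C_E(B) = R_i F`. -/
def StP9a : Prop :=
  ∀ (G : Type u) [Group G] [Finite G] (S : Sylow 2 G) (V F B P R : Subgroup G) (p : G)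
    (K : Type) [Field K] [Finite K] [CharP K 2] (k : ℕ)
    (N : NatKM K (S : Subgroup G) P (zl (S : Subgroup G) P) ⊥ k) (i : Fin k) (β : G → K),
    NSit S V F B P R p N i β → ∀ r ∈ EE V F, r ∈ centralizer (B : Set G) → ∃ s, Rtv N i s ∧ s⁻¹ * r ∈ F

/-- **P9b**: (EQ): there is an `S`-equivariant family of full-support vectors `u(v) ∈ U`, `v ∈ V_R` singular,
with `v u(v) ∈ F`. -/
def StP9b : Prop :=
  ∀ (G : Type u) [Group G] [Finite G] (S : Sylow 2 G) (V F B P R : Subgroup G) (p : G)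
    (K : Type) [Field K] [Finite K] [CharP K 2] (k : ℕ)
    (N : NatKM K (S : Subgroup G) P (zl (S : Subgroup G) P) ⊥ k) (i : Fin k) (β : G → K),
    NSit S V F B P R p N i β → Tor (F := F) N i →
    (∀ r ∈ EE V F, r ∈ centralizer (B : Set G) → ∃ s, Rtv N i s ∧ s⁻¹ * r ∈ F) →
    ∃ u : G → G, ∀ g ∈ R, ∀ v ∈ MulAut.conj g • zc (S : Subgroup G), v ≠ 1 →
      u v ∈ zl (S : Subgroup G) P ∧ (∀ j, N.e (u v) j ≠ 0) ∧ v * u v ∈ F ∧
        ∀ s ∈ (S : Subgroup G), u (s * v * s⁻¹) = s * u v * s⁻¹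

/-- **P9c**: (END). -/
def StP9c : Prop :=
  ∀ (G : Type u) [Group G] [Finite G] (S : Sylow 2 G) (V F B P R : Subgroup G) (p : G)
    (K : Type) [Field K] [Finite K] [CharP K 2] (k : ℕ)
    (N : NatKM K (S : Subgroup G) P (zl (S : Subgroup G) P) ⊥ k) (i : Fin k) (β : G → K),
    NSit S V F B P R p N i β →
    (∃ u : G → G, ∀ g ∈ R, ∀ v ∈ MulAut.conj g • zc (S : Subgroup G), v ≠ 1 →
      u v ∈ zl (S : Subgroup G) P ∧ (∀ j, N.e (u v) j ≠ 0) ∧ v * u v ∈ F ∧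
        ∀ s ∈ (S : Subgroup G), u (s * v * s⁻¹) = s * u v * s⁻¹) → False

end parts

end Cfsg.Agent.Omega.NOThreeL.Low

end

section


/-!
# THEOREM LOW (#19191, helper597), part P9a: (CE) `C_E(B) = R_i F`

`x` bad, `r ∈ C_E(B)`, `r' = r^(x⁻¹) ∈ C_W(B) ≤ S`: `r'` centralises `R_i`, so it normalises the block `N_i`; for
`w ∈ N_i - R_i` the commutator `[w, r']` is centralised by `B`, so it is in `R_i = [w, B]`: `r' ∈ B N`, and
`r ∈ R_i F (E ∩ N^x) = R_i F`.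

* `bh_of_sit` : `BH V F B`;
* `blk_conj` : an element of `S` which centralises `R_i` normalises `N_i`;
* `p9a : StP9a`.
-/

set_option autoImplicit false

namespace Cfsg.Agent.Omega.NOThreeL.Low.CE

open Subgroup Cfsg Cfsg.Agent.ZN Cfsg.Agent.Omega.MinPar Cfsg.Agent.Omega.NoFF.Basic
open Cfsg.Agent.Omega.NOne.Flat (Hyp EE WW NN BadX badX_inv conj_eq_of_cent)
open Cfsg.Agent.Omega.NOne.Flat.Hyp (W_le_X E_le_W NN_le_W)
open Cfsg.Agent.Omega.NOne.NearFF (c c_def)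
open Cfsg.Agent.Omega.NOThreeL.Low.Key
open Cfsg.Agent.Omega.NOThreeL.NF
open Cfsg.Agent.Omega.FFThm (NatKM)
open Cfsg.Agent.Omega.NatPair (ap)
open Cfsg.Agent.Lib.SL2Mat (up)
open scoped Pointwise

universe u

variable {G : Type u} [Group G]

theorem bh_of_sit [Finite G] {S : Sylow 2 G} {V F B P R : Subgroup G} {p : G} (s : Sit S V F B P R p) :
    BH V F B :=
  { toHyp := s.flat, le_W := s.BW, F_le := s.FB, abel := s.comm, norm := s.XB }

section blk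

variable {K : Type} [Field K] {S P U : Subgroup G} {k : ℕ} {N : NatKM K S P U ⊥ k} {i : Fin k}

/-- an element of `S` which centralises `R_i` normalises `N_i` -/
theorem blk_conj (hSP : S ≤ P) (hPU : P ≤ normalizer (U : Set G)) {t : G} (ht : t ∈ S)
    (hc : ∀ v, Rtv N i v → t * v * t⁻¹ = v) {v : G} (hv : Blk N i v) : Blk N i (t * v * t⁻¹) := by
  obtain ⟨σ, h1, -⟩ := NatR.exists_perm (M := N) hSP ht
  have hσ : σ i = i := by
    by_contra hne
    obtain ⟨w, hw, hx⟩ := NatR.exists_ln (M := N) i 1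
    have hwR : Rtv N i w := ⟨⟨hw.1, fun j hj => hw.2.2 j hj⟩, hw.2.1 i⟩
    have h2 := (h1 w hw.1 i).1 (by rw [hc w hwR]; exact hw.2.2 _ hne)
    rw [h2] at hx
    exact zero_ne_one hx
  refine ⟨NatR.cmem hPU (hSP ht) hv.1, fun j hj => ?_⟩
  obtain ⟨j', rfl⟩ := σ.surjective j
  refine (h1 v hv.1 j').2 (hv.2 j' fun h3 => hj ?_)
  rw [h3, hσ]

/-- a vector of the block is determined by its coordinates -/
theorem blk_ext {v w : G} (hv : Blk N i v) (hw : Blk N i w) (h : N.e v i = N.e w i) : v = w := by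
  refine NatR.e_inj (M := N) hv.1 hw.1 ?_
  funext j
  by_cases hj : j = i
  · subst hj; exact h
  · rw [hv.2 j hj, hw.2 j hj]

theorem blk_mul {v w : G} (hv : Blk N i v) (hw : Blk N i w) : Blk N i (v * w) := by
  refine ⟨mul_mem hv.1 hw.1, fun j hj => ?_⟩
  rw [N.mul v hv.1 w hw.1, Pi.add_apply, hv.2 j hj, hw.2 j hj, add_zero]

theorem blk_inv {v : G} (hv : Blk N i v) : Blk N i v⁻¹ := by
  refine ⟨inv_mem hv.1, fun j hj => ?_⟩
  rw [NatR.e_inv hv.1, Pi.neg_apply, hv.2 j hj, neg_zero]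

theorem e_mul_inv {v w : G} (hv : Blk N i v) (hw : Blk N i w) : N.e (v * w⁻¹) i = N.e v i - N.e w i := by
  rw [N.mul v hv.1 _ (inv_mem hw.1), NatR.e_inv hw.1, Pi.add_apply, Pi.neg_apply, sub_eq_add_neg]

end blk

/-- **P9a** (CE) -/
theorem p9a : StP9a.{u} := by
  intro G _ _ S V F B P R p K _ _ _ k N i β n r hrE hrB
  have s := n.toSit
  have bh : BH V F B := bh_of_sit s
  have hF := s.flat
  have hSP : (S : Subgroup G) ≤ P := s.hP.le
  have hPU : P ≤ normalizer (zl (S : Subgroup G) P : Set G) := ZN.le_normalizer_zl _ _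
  obtain ⟨x, hx, hb⟩ := exists_bad hF
  have hxi : x⁻¹ ∈ centralizer (F : Set G) := inv_mem hx
  -- `r' = x⁻¹ r x`
  obtain ⟨r', hr'⟩ : ∃ r', r' = x⁻¹ * r * x := ⟨_, rfl⟩
  have hrr : r = x * r' * x⁻¹ := by rw [hr']; group
  have hr'W : r' ∈ WW V F := by
    have h1 : r' ∈ MulAut.conj x⁻¹ • EE V F := by
      rw [mem_conj, hr']
      have e : x⁻¹⁻¹ * (x⁻¹ * r * x) * x⁻¹ = r := by group
      rwa [e]
    exact NOne.Flat.Hyp.conjE_le_W hxi h1
  have hr'B : ∀ b ∈ B, b * r' = r' * b := by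
    intro b hbB
    have h1 : x * b * x⁻¹ ∈ B := norm_conj_mem (s.XB hx) hbB
    have h2 := mem_centralizer_iff.1 hrB _ h1
    have e1 : b * r' = x⁻¹ * (x * b * x⁻¹ * r) * x := by rw [hr']; group
    have e2 : r' * b = x⁻¹ * (r * (x * b * x⁻¹)) * x := by rw [hr']; group
    rw [e1, e2, h2]
  have hr'S : r' ∈ (S : Subgroup G) := s.CB (mem_inf.2 ⟨hr'W, mem_centralizer_iff.2 hr'B⟩)
  -- `r'` normalises the block
  have hblk : ∀ v, Blk N i v → Blk N i (r' * v * r'⁻¹) := fun v hv => by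
    refine blk_conj hSP hPU hr'S (fun v hv => ?_) hv
    rw [← hr'B v (n.rtB v hv)]; group
  obtain ⟨w, hw, hwE⟩ := n.bad_i
  have hwV : w ∈ V := s.UV hw.1
  have hw1 : N.e w i 1 ≠ 0 := fun h0 => hwE ((n.blkE w hw).2 h0)
  -- `d = [w, r']`
  have hd : Blk N i (w * (r' * w * r'⁻¹)⁻¹) := blk_mul hw (blk_inv (hblk w hw))
  obtain ⟨d, hdd⟩ : ∃ d, d = w * (r' * w * r'⁻¹)⁻¹ := ⟨_, rfl⟩
  rw [← hdd] at hd
  have hdV : d ∈ V := s.UV hd.1
  have hdc : ∀ b ∈ B, b * d * b⁻¹ = d := by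
    intro b hbB
    -- `b w b⁻¹ = z⁻¹ w`, `z = [w, b] ∈ V ∩ B`
    have hz := bh.c_memI hwV hbB
    obtain ⟨z, hzz⟩ : ∃ z, z = c w b := ⟨_, rfl⟩
    rw [← hzz] at hz
    have e1 : b * w * b⁻¹ = z⁻¹ * w := by rw [hzz, c_def]; group
    have e2 : b * r' * b⁻¹ = r' := by rw [hr'B b hbB]; group
    have e3 : r' * z * r'⁻¹ = z := by rw [← hr'B z hz.2]; group
    have e4 : b * d * b⁻¹ = (b * w * b⁻¹) * ((b * r' * b⁻¹) * (b * w * b⁻¹) * (b * r' * b⁻¹)⁻¹)⁻¹ := by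
      rw [hdd]; group
    have e5 : z * d = d * z := hF.V_comm hz.1 hdV
    have e6 : z⁻¹ * w * (r' * (z⁻¹ * w) * r'⁻¹)⁻¹ = z⁻¹ * d * (r' * z * r'⁻¹) := by rw [hdd]; group
    rw [e4, e1, e2, e6, e3, mul_assoc, ← e5, inv_mul_cancel_left]
  -- `d ∈ R_i`
  have hd1 : N.e d i 1 = 0 := by
    obtain ⟨b, hbB, hb1⟩ := n.βsurj 1
    have h1 := (n.act b hbB d hd).2
    rw [hdc b hbB, hb1, NatR.ap_up] at h1
    have h2 := congrFun h1 0
    simpa using h2
  -- `[w, b] = d`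
  obtain ⟨b, hbB, hb1⟩ := n.βsurj (- (N.e d i 0 / N.e w i 1))
  have hwb : w * (b * w * b⁻¹)⁻¹ = d := by
    refine blk_ext (N := N) (blk_mul hw (blk_inv (n.act b hbB w hw).1)) hd ?_
    rw [e_mul_inv hw (n.act b hbB w hw).1, (n.act b hbB w hw).2, hb1, NatR.ap_up]
    funext j
    fin_cases j
    · simp [hw1]
    · simp [hd1]
  have hbr : c w (b⁻¹ * r') = 1 := by
    have h1 : b * w * b⁻¹ = r' * w * r'⁻¹ := by
      rw [hdd] at hwb
      exact inv_injective (mul_left_cancel hwb)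
    have h2 : (b⁻¹ * r') * w * (b⁻¹ * r')⁻¹ = w := by
      calc (b⁻¹ * r') * w * (b⁻¹ * r')⁻¹ = b⁻¹ * (r' * w * r'⁻¹) * b := by group
        _ = b⁻¹ * (b * w * b⁻¹) * b := by rw [h1]
        _ = w := by group
    have e : c w (b⁻¹ * r') = w * ((b⁻¹ * r') * w * (b⁻¹ * r')⁻¹)⁻¹ := by rw [c_def]; group
    rw [e, h2, mul_inv_cancel]
  have hN : b⁻¹ * r' ∈ NN V F :=
    (hF.c_mem_F_iff hwV hwE (mul_mem (inv_mem (s.BW hbB)) hr'W)).1 (by rw [hbr]; exact one_mem _)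
  -- `b' = x b x⁻¹ = a m`, `a ∈ V ∩ B`, `m ∈ N^x`
  obtain ⟨f, hf, hfb⟩ := bh.exists_conjI_mul hxi (badX_inv hb) hbB
  rw [mem_conj, inv_inv] at hf
  -- `a = x f x⁻¹`, `a⁻¹ r = x (f⁻¹ b) (b⁻¹ r') x⁻¹ ∈ N^x ∩ E = F`
  have h1 : (x * f * x⁻¹)⁻¹ * r ∈ EE V F := mul_mem (inv_mem (bh.I_le_E hf)) hrE
  have h2 : (x * f * x⁻¹)⁻¹ * r ∈ MulAut.conj x • NN V F := by
    rw [mem_conj]
    have e : x⁻¹ * ((x * f * x⁻¹)⁻¹ * r) * x = (f⁻¹ * b) * (b⁻¹ * r') := by rw [hrr]; group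
    rw [e]
    exact mul_mem hfb hN
  have h3 : (x * f * x⁻¹)⁻¹ * r ∈ F := by
    rw [← hF.E_inf_conjNN hx hb]
    exact mem_inf.2 ⟨h1, h2⟩
  obtain ⟨q, hq, hqF⟩ := n.I _ hf
  refine ⟨q, hq, ?_⟩
  have e : q⁻¹ * r = (q⁻¹ * (x * f * x⁻¹)) * ((x * f * x⁻¹)⁻¹ * r) := by group
  rw [e]
  exact mul_mem hqF h3

end Cfsg.Agent.Omega.NOThreeL.Low.CE

end

section


/-!
# THEOREM LOW (#19191), P9b: (EQ)

`N_i` is the bad block of `U = V_P`.  For a singular vector `v` of the good line `V_R`, `v = ρ(v) f(v)` with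
`ρ(v) ∈ R_i`, `f(v) ∈ F`.  By (TORUS) and (S++) `ρ(v^s) = ρ(v)^s` for `s ∈ N_S(N_i)` (`eq_rho`), so the
`S`-conjugates of `ρ` are the components of a vector `τ(v) ∈ U` of full support, `τ(v^s) = τ(v)^s`; by (CE)
`v τ(v) ∈ F`.
-/

set_option autoImplicit false

namespace Cfsg.Agent.Omega.NOThreeL.Low.EqB

open Subgroup Cfsg Cfsg.Agent.Omega.MinPar Cfsg.Agent.Omega.NOThreeL.Low
open Cfsg.Agent.ZN (zc zl)
open Cfsg.Agent.Omega.NOThreeL.NF.NatR (e_one e_inv e_inj cmem)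
open Cfsg.Agent.Omega.NOne.Flat (EE NN WW)
open Cfsg.Agent.Omega.NoFF.Basic (mem_conj conj_conj)
open scoped Pointwise
open Cfsg.Agent.Omega.FFThm (NatKM)
open Cfsg.Agent.Omega.NatPair (ap)
open Cfsg.Agent.MinSimple.VModule (le_normalizer_zl zc_le)

universe u

section nat

variable {G : Type u} [Group G] {K : Type} [Field K] {S P U : Subgroup G} {k : ℕ}
  {N : NatKM K S P U ⊥ k}

theorem e_mul {a b : G} (ha : a ∈ U) (hb : b ∈ U) : N.e (a * b) = N.e a + N.e b := N.mul a ha b hb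

theorem e_ne_zero {a : G} (ha : a ∈ U) (h : a ≠ 1) : N.e a ≠ 0 := fun h1 =>
  h (mem_bot.1 ((N.ker a ha).1 h1))

theorem rtv_mem {i : Fin k} {r : G} (h : Rtv N i r) : r ∈ U := h.1.1

theorem rtv_one {i : Fin k} : Rtv N i 1 := ⟨⟨one_mem _, fun j _ => by rw [e_one]; rfl⟩, by rw [e_one]; rfl⟩

theorem rtv_inv {i : Fin k} {r : G} (h : Rtv N i r) : Rtv N i r⁻¹ :=
  ⟨⟨inv_mem h.1.1, fun j hj => by rw [e_inv h.1.1, Pi.neg_apply, h.1.2 j hj, neg_zero]⟩, by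
    rw [e_inv h.1.1, Pi.neg_apply, Pi.neg_apply, h.2, neg_zero]⟩

theorem rtv_mul {i : Fin k} {r s : G} (h : Rtv N i r) (h' : Rtv N i s) : Rtv N i (r * s) :=
  ⟨⟨mul_mem h.1.1 h'.1.1, fun j hj => by rw [e_mul h.1.1 h'.1.1, Pi.add_apply, h.1.2 j hj, h'.1.2 j hj, add_zero]⟩,
    by rw [e_mul h.1.1 h'.1.1, Pi.add_apply, Pi.add_apply, h.2, h'.2, add_zero]⟩

/-- a vector of `R_i` is given by its coordinate -/
theorem rtv_ext {i : Fin k} {r s : G} (h : Rtv N i r) (h' : Rtv N i s) (h0 : N.e r i 0 = N.e s i 0) : r = s := by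
  refine e_inj (M := N) h.1.1 h'.1.1 ?_
  funext j
  by_cases hj : j = i
  · subst hj
    funext a
    match a with
    | 0 => exact h0
    | 1 => rw [h.2, h'.2]
  · rw [h.1.2 j hj, h'.1.2 j hj]

theorem rtv_ne {i : Fin k} {r : G} (h : Rtv N i r) (h1 : r ≠ 1) : N.e r i 0 ≠ 0 := fun h0 =>
  h1 (rtv_ext h rtv_one (by rw [h0, e_one]; rfl))

theorem rtv_ne' {i : Fin k} {r : G} (h : Rtv N i r) (h1 : r ≠ 1) : N.e r i ≠ 0 := fun h0 =>
  rtv_ne h h1 (by rw [h0]; rfl)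

variable (hSP : S ≤ P) (hPU : P ≤ normalizer (U : Set G))
include hSP hPU

omit hPU in
/-- `t ∈ S` permutes the blocks and the lines. -/
theorem exists_perm {t : G} (ht : t ∈ S) : ∃ σ : Equiv.Perm (Fin k),
    (∀ v ∈ U, ∀ j, N.e (t * v * t⁻¹) (σ j) = 0 ↔ N.e v j = 0) ∧
    ∀ v ∈ U, ∀ j, N.e (t * v * t⁻¹) (σ j) 1 = 0 ↔ N.e v j 1 = 0 := by
  obtain ⟨σ, h1⟩ := N.perm t (hSP ht)
  obtain ⟨τ, h2⟩ := N.line t ht
  refine ⟨σ, h1, ?_⟩
  have : σ = τ := by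
    ext1 j
    -- a vector with the single coordinate `(0,1)` at `j`
    obtain ⟨v, hv, hev⟩ := N.surj (Pi.single j ![0, 1])
    have h3 : N.e v j 1 ≠ 0 := by
      rw [hev, Pi.single_eq_same]
      exact one_ne_zero
    have h4 : N.e (t * v * t⁻¹) (τ j) 1 ≠ 0 := fun h5 => h3 ((h2 v hv j).1 h5)
    by_contra hne
    apply h4
    have h5 : N.e (t * v * t⁻¹) (τ j) = 0 := by
      have h6 := (h1 v hv (σ.symm (τ j))).2 (by
        rw [hev]
        exact Pi.single_eq_of_ne (fun h7 => hne (σ.symm_apply_eq.1 h7).symm) _)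
      rwa [Equiv.apply_symm_apply] at h6
    rw [h5]; rfl
  rw [this]
  exact h2

/-- the image of `R_j` -/
theorem rtv_conj {t : G} (ht : t ∈ S) {i j : Fin k} (hij : ∀ v ∈ U, N.e (t * v * t⁻¹) i = 0 ↔ N.e v j = 0)
    {r : G} (hr : Rtv N j r) : Rtv N i (t * r * t⁻¹) := by
  obtain ⟨σ, h1, h2⟩ := exists_perm hSP (N := N) ht
  have hσ : σ j = i := by
    by_contra hne
    obtain ⟨v, hv, hev⟩ := N.surj (Pi.single j ![0, 1])
    have h3 : N.e v j ≠ 0 := by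
      rw [hev, Pi.single_eq_same]
      exact fun h4 => one_ne_zero (congrFun h4 1)
    apply h3
    rw [← hij v hv]
    have h6 := (h1 v hv (σ.symm i)).2 (by
      rw [hev]
      exact Pi.single_eq_of_ne (fun h7 => hne (σ.symm_apply_eq.1 h7).symm) _)
    rwa [Equiv.apply_symm_apply] at h6
  refine ⟨⟨cmem hPU (hSP ht) hr.1.1, fun l hl => ?_⟩, ?_⟩
  · have h6 := (h1 r hr.1.1 (σ.symm l)).2 (hr.1.2 _ fun h7 => hl (by rw [← hσ, ← h7, Equiv.apply_symm_apply]))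
    rwa [Equiv.apply_symm_apply] at h6
  · have h6 := (h2 r hr.1.1 j).2 hr.2
    rwa [hσ] at h6

omit hSP hPU in
/-- `S`-conjugates of the block `i` -/
theorem sep (i : Fin k) {a b : G} (ha : a ∈ U) (hb : b ∈ U) (hSU : S ≤ normalizer (U : Set G))
    (h : ∀ t ∈ S, N.e (t * a * t⁻¹) i = N.e (t * b * t⁻¹) i) : a = b := by
  refine e_inj (M := N) ha hb ?_
  funext j
  obtain ⟨t, ht, h1⟩ := N.trans j i
  have h2 := h t ht
  have h3 : N.e (t * (a * b⁻¹) * t⁻¹) i = 0 := by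
    have e : t * (a * b⁻¹) * t⁻¹ = (t * a * t⁻¹) * (t * b * t⁻¹)⁻¹ := by group
    have ha' : t * a * t⁻¹ ∈ U := (mem_normalizer_iff.1 (hSU ht) a).1 ha
    have hb' : t * b * t⁻¹ ∈ U := (mem_normalizer_iff.1 (hSU ht) b).1 hb
    rw [e, e_mul ha' (inv_mem hb'), e_inv hb', Pi.add_apply, Pi.neg_apply, h2, add_neg_cancel]
  have h4 := (h1 _ (mul_mem ha (inv_mem hb))).1 h3
  rw [e_mul ha (inv_mem hb), e_inv hb, Pi.add_apply, Pi.neg_apply] at h4
  exact add_neg_eq_zero.1 h4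

end nat

/-! ### (EQ) -/

section main

variable {G : Type u} [Group G] [Finite G] {S : Sylow 2 G} {V F B P R : Subgroup G} {p : G}
  {K : Type} [Field K] {k : ℕ}
  {N : NatKM K (S : Subgroup G) P (zl (S : Subgroup G) P) ⊥ k} {i : Fin k} {β : G → K}

/-- the singular vectors of `V_R` -/
def SS (S : Sylow 2 G) (R : Subgroup G) (v : G) : Prop :=
  v ≠ 1 ∧ ∃ g ∈ R, v ∈ MulAut.conj g • zc (S : Subgroup G)

variable (h : NSit S V F B P R p N i β)
include h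

theorem S_le_P : (S : Subgroup G) ≤ P := h.hP.le

theorem S_le_R : (S : Subgroup G) ≤ R := h.hR.le

omit h [Field K] [Finite G] in
theorem norm_U : P ≤ normalizer (zl (S : Subgroup G) P : Set G) := le_normalizer_zl _ _

theorem U_le_V : zl (S : Subgroup G) P ≤ V := h.UV

theorem SS_conj {v : G} (hv : SS S R v) {s : G} (hs : s ∈ (S : Subgroup G)) : SS S R (s * v * s⁻¹) := by
  obtain ⟨h1, q, hq, h2⟩ := hv
  refine ⟨fun h3 => h1 ?_, s * q, mul_mem (S_le_R h hs) hq, ?_⟩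
  · have e : v = s⁻¹ * (s * v * s⁻¹) * s := by group
    rw [e, h3]; group
  · rw [mem_conj] at h2 ⊢
    have e : (s * q)⁻¹ * (s * v * s⁻¹) * (s * q) = q⁻¹ * v * q := by group
    rwa [e]

omit h [Field K] [Finite G] in
theorem SS_mem_R {v : G} (hv : SS S R v) : v ∈ zl (S : Subgroup G) R := by
  obtain ⟨-, q, hq, h2⟩ := hv
  have h3 := (mem_normalizer_iff.1 (le_normalizer_zl (S : Subgroup G) R hq) _).1
    (MinSimple.VModule.zc_le_zl _ _ (mem_conj.1 h2))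
  have e : q * (q⁻¹ * v * q) * q⁻¹ = v := by group
  rwa [e] at h3

theorem SS_mem {v : G} (hv : SS S R v) : v ∈ V ⊓ B :=
  ⟨h.RV (SS_mem_R hv), h.RB (SS_mem_R hv)⟩

theorem SS_not_F {v : G} (hv : SS S R v) : v ∉ F := by
  obtain ⟨h1, q, hq, h2⟩ := hv
  intro h3
  have h4 := h.spp 1 1 q R (one_mem _) rfl h.hR hq
  rw [one_mul] at h4
  have : v ∈ MulAut.conj q • zc (S : Subgroup G) ⊓ F := ⟨h2, h3⟩
  rw [h4] at this
  exact h1 (mem_bot.1 this)

omit h in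
/-- the component of `v` in `R_i` -/
noncomputable def rho (N : NatKM K (S : Subgroup G) P (zl (S : Subgroup G) P) ⊥ k) (i : Fin k)
    (F : Subgroup G) (v : G) : G := by
  classical
  exact if h1 : ∃ r, Rtv N i r ∧ r⁻¹ * v ∈ F then h1.choose else 1

theorem rho_spec {v : G} (hv : SS S R v) : Rtv N i (rho N i F v) ∧ (rho N i F v)⁻¹ * v ∈ F := by
  classical
  have h1 := h.I v (SS_mem h hv)
  unfold rho
  rw [dif_pos h1]
  exact h1.choose_spec

theorem rho_ne {v : G} (hv : SS S R v) : rho N i F v ≠ 1 := by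
  intro h1
  have h2 := (rho_spec h hv).2
  rw [h1, inv_one, one_mul] at h2
  exact SS_not_F h hv h2

omit h [Finite G] in
theorem F_comm {g f : G} (hg : g ∈ centralizer (F : Set G)) (hf : f ∈ F) : g * f * g⁻¹ = f := by
  have := mem_centralizer_iff.1 hg f hf
  rw [← this, mul_inv_cancel_right]

omit h [Finite G] in
/-- the diagonal matrix -/
theorem exists_diag {l : K} (hl : l ≠ 0) : ∃ q ∈ P, ∀ v ∈ zl (S : Subgroup G) P,
    (∀ j, j ≠ i → N.e (q * v * q⁻¹) j = N.e v j) ∧ N.e (q * v * q⁻¹) i 0 = l * N.e v i 0 ∧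
      (N.e v i 1 = 0 → N.e (q * v * q⁻¹) i 1 = 0) := by
  classical
  obtain ⟨q, hq, h1⟩ := N.lift (Function.update 1 i (Lib.SL2Mat.dg l hl))
  refine ⟨q, hq, fun v hv => ⟨fun j hj => ?_, ?_, fun h0 => ?_⟩⟩
  · rw [h1.1 v hv j, Function.update_of_ne hj, Pi.one_apply, NatPair.ap_one]
  · rw [h1.1 v hv i, Function.update_self, NatPair.ap_zero', Lib.SL2Mat.dg_00, Lib.SL2Mat.dg_01, zero_mul, add_zero]
  · rw [h1.1 v hv i, Function.update_self, NatPair.ap_one', Lib.SL2Mat.dg_10, Lib.SL2Mat.dg_11, h0, zero_mul,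
      mul_zero, add_zero]

/-- **(TORUS)**, second form -/
theorem tor (hT : Tor (F := F) N i) {b r : G} (hb : Rtv N i b) (hb1 : b ≠ 1) (hr : Rtv N i r) (hr1 : r ≠ 1) :
    ∃ g ∈ centralizer (F : Set G), g * b * g⁻¹ = r ∧ ∃ q ∈ P,
      MulAut.conj g • zc (S : Subgroup G) = MulAut.conj q • zc (S : Subgroup G) := by
  have hl : N.e r i 0 / N.e b i 0 ≠ 0 := div_ne_zero (rtv_ne hr hr1) (rtv_ne hb hb1)
  obtain ⟨g, hg, h1⟩ := hT _ hl
  refine ⟨g, hg, ?_, ?_⟩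
  · refine rtv_ext (h1 b hb).1 hr ?_
    rw [(h1 b hb).2, div_mul_cancel₀ _ (rtv_ne hb hb1)]
  · obtain ⟨q, hq, h2⟩ := exists_diag (N := N) (i := i) hl
    refine ⟨q, hq, ?_⟩
    have key : ∀ z ∈ zc (S : Subgroup G), g * z * g⁻¹ = q * z * q⁻¹ := by
      intro z hz
      obtain ⟨s, hs, hse, hsF⟩ := h.zF z hz
      have hzU : z ∈ zl (S : Subgroup G) P := MinSimple.VModule.zc_le_zl _ _ hz
      have e1 : g * z * g⁻¹ = (g * s * g⁻¹) * (s⁻¹ * z) := by
        have := F_comm hg hsF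
        calc g * z * g⁻¹ = (g * s * g⁻¹) * (g * (s⁻¹ * z) * g⁻¹) := by group
          _ = (g * s * g⁻¹) * (s⁻¹ * z) := by rw [this]
      obtain ⟨h3, h4⟩ := h1 s hs
      have hU1 : s⁻¹ * z ∈ zl (S : Subgroup G) P := mul_mem (inv_mem hs.1.1) hzU
      rw [e1]
      refine e_inj (M := N) (mul_mem h3.1.1 hU1) (cmem norm_U hq hzU) ?_
      have e2 : N.e (s⁻¹ * z) = - N.e s + N.e z := by rw [e_mul (inv_mem hs.1.1) hzU, e_inv hs.1.1]
      have hz1 : N.e z i 1 = 0 := by rw [← hse]; exact hs.2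
      funext j
      by_cases hj : j = i
      · subst hj
        have e3 : N.e (s⁻¹ * z) j = 0 := by
          rw [e2, Pi.add_apply, Pi.neg_apply, hse, neg_add_cancel]
        rw [e_mul h3.1.1 hU1, Pi.add_apply, e3, add_zero]
        funext a
        match a with
        | 0 => rw [h4, (h2 z hzU).2.1, hse]
        | 1 => rw [h3.2, (h2 z hzU).2.2 hz1]
      · rw [e_mul h3.1.1 hU1, Pi.add_apply, h3.1.2 j hj, zero_add, e2, Pi.add_apply, Pi.neg_apply,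
          hs.1.2 j hj, neg_zero, zero_add, (h2 z hzU).1 j hj]
    ext y
    rw [mem_conj, mem_conj]
    constructor
    · intro hz
      have h5 := key _ hz
      have e5 : g * (g⁻¹ * y * g) * g⁻¹ = y := by group
      rw [e5] at h5
      have e6 : q⁻¹ * y * q = g⁻¹ * y * g := by
        nth_rw 1 [h5]; group
      rwa [e6]
    · intro hz
      have h5 := key _ hz
      have e5 : q * (q⁻¹ * y * q) * q⁻¹ = y := by group
      rw [e5] at h5
      have e6 : g⁻¹ * y * g = q⁻¹ * y * q := by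
        nth_rw 1 [← h5]; group
      rwa [e6]

/-- **(EQ)** -/
theorem eq_rho (hT : Tor (F := F) N i) {v : G} (hv : SS S R v) {s : G} (hs : s ∈ (S : Subgroup G))
    (hsN : ∀ w ∈ zl (S : Subgroup G) P, N.e (s * w * s⁻¹) i = 0 ↔ N.e w i = 0) :
    rho N i F (s * v * s⁻¹) = s * rho N i F v * s⁻¹ := by
  have hv' := SS_conj h hv hs
  obtain ⟨hb, hf'⟩ := rho_spec h hv'
  obtain ⟨ha, hf⟩ := rho_spec h hv
  have ha' := rtv_conj (S_le_P h) norm_U hs hsN ha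
  have hbne := rho_ne h hv'
  set b := rho N i F (s * v * s⁻¹) with hbdef
  set a := rho N i F v with hadef
  by_contra hne
  set a' := s * a * s⁻¹ with ha'def
  have hr : Rtv N i (a'⁻¹ * b) := rtv_mul (rtv_inv ha') hb
  have hr1 : a'⁻¹ * b ≠ 1 := fun h1 => hne (inv_mul_eq_one.1 h1).symm
  obtain ⟨g, hgF, hgr, q', hq', hgP⟩ := tor h hT hb hbne hr hr1
  have h1 : g * (b⁻¹ * (s * v * s⁻¹)) * g⁻¹ = b⁻¹ * (s * v * s⁻¹) := F_comm hgF hf'
  have h2 : g * (s * v * s⁻¹) * g⁻¹ = s * (a⁻¹ * v) * s⁻¹ := by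
    have e1 : g * (s * v * s⁻¹) * g⁻¹ = (g * b * g⁻¹) * (g * (b⁻¹ * (s * v * s⁻¹)) * g⁻¹) := by group
    rw [e1, h1, hgr, ha'def]
    group
  obtain ⟨hv1, q, hq, hvq⟩ := hv
  have h3 : a⁻¹ * v ∈ MulAut.conj (s⁻¹ * g * (s * q)) • zc (S : Subgroup G) := by
    rw [mem_conj] at hvq ⊢
    have e2 : a⁻¹ * v = s⁻¹ * (g * (s * v * s⁻¹) * g⁻¹) * s := by rw [h2]; group
    rw [e2]
    have e3 : (s⁻¹ * g * (s * q))⁻¹ * (s⁻¹ * (g * (s * v * s⁻¹) * g⁻¹) * s) * (s⁻¹ * g * (s * q)) =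
        q⁻¹ * v * q := by group
    rwa [e3]
  have h4 := h.spp (s⁻¹ * q') (s⁻¹ * g) (s * q) R (mul_mem (inv_mem (S_le_P h hs)) hq')
    (by rw [← conj_conj, hgP, conj_conj]) h.hR (mul_mem (S_le_R h hs) hq)
  have h5 : a⁻¹ * v = 1 := by
    have : a⁻¹ * v ∈ MulAut.conj (s⁻¹ * g * (s * q)) • zc (S : Subgroup G) ⊓ F := ⟨h3, hf⟩
    rw [h4] at this
    exact mem_bot.1 this
  rw [h5, mul_one, mul_inv_cancel] at h2
  have h6 : s * v * s⁻¹ = 1 := by
    have e4 : s * v * s⁻¹ = g⁻¹ * (g * (s * v * s⁻¹) * g⁻¹) * g := by group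
    rw [e4, h2]; group
  exact hv'.1 h6

/-- `τ(v)`: the vector of `U` with the components `ρ_j(v)` -/
theorem exists_tau (hT : Tor (F := F) N i) {v : G} (hv : SS S R v) : ∃ a ∈ zl (S : Subgroup G) P,
    (∀ j, N.e a j 1 = 0) ∧
    ∀ t ∈ (S : Subgroup G), N.e (t * a * t⁻¹) i = N.e (rho N i F (t * v * t⁻¹)) i := by
  have hP : P ≤ normalizer (zl (S : Subgroup G) P : Set G) := norm_U
  choose t ht htj using fun j => N.trans j i
  -- the components
  have hy : ∀ j, Rtv N j ((t j)⁻¹ * rho N i F (t j * v * (t j)⁻¹) * (t j)⁻¹⁻¹) := by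
    intro j
    refine rtv_conj (S_le_P h) hP (inv_mem (ht j)) (fun w hw => ?_) (rho_spec h (SS_conj h hv (ht j))).1
    have h1 := htj j _ (cmem hP (inv_mem (S_le_P h (ht j))) hw)
    have e : t j * ((t j)⁻¹ * w * (t j)⁻¹⁻¹) * (t j)⁻¹ = w := by group
    rw [e] at h1
    exact h1.symm
  obtain ⟨a, ha, hea⟩ := N.surj fun j => N.e ((t j)⁻¹ * rho N i F (t j * v * (t j)⁻¹) * (t j)⁻¹⁻¹) j
  refine ⟨a, ha, fun j => by rw [hea]; exact (hy j).2, fun s hs => ?_⟩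
  -- the block `j` with `s : j ↦ i`
  obtain ⟨σ, h1, -⟩ := exists_perm (S_le_P h) (N := N) hs
  set j := σ.symm i with hj
  have h1' : ∀ w ∈ zl (S : Subgroup G) P, N.e (s * w * s⁻¹) i = 0 ↔ N.e w j = 0 := by
    intro w hw
    have := h1 w hw j
    rwa [hj, Equiv.apply_symm_apply] at this
  set y := (t j)⁻¹ * rho N i F (t j * v * (t j)⁻¹) * (t j)⁻¹⁻¹ with hydef
  have hyj := hy j
  rw [← hydef] at hyj
  have h2 : N.e (s * (a * y⁻¹) * s⁻¹) i = 0 := by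
    rw [h1' _ (mul_mem ha (inv_mem hyj.1.1)), e_mul ha (inv_mem hyj.1.1), e_inv hyj.1.1, Pi.add_apply,
      Pi.neg_apply, hea, add_neg_cancel]
  have hU1 : s * a * s⁻¹ ∈ zl (S : Subgroup G) P := cmem hP (S_le_P h hs) ha
  have hU2 : s * y * s⁻¹ ∈ zl (S : Subgroup G) P := cmem hP (S_le_P h hs) hyj.1.1
  have e1 : s * (a * y⁻¹) * s⁻¹ = (s * a * s⁻¹) * (s * y * s⁻¹)⁻¹ := by group
  rw [e1, e_mul hU1 (inv_mem hU2), e_inv hU2, Pi.add_apply, Pi.neg_apply] at h2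
  rw [add_neg_eq_zero.1 h2]
  -- `s y s⁻¹ = ρ(s v s⁻¹)`
  have h3 : s * y * s⁻¹ = rho N i F (s * v * s⁻¹) := by
    have h4 := eq_rho h hT (SS_conj h hv (ht j)) (s := s * (t j)⁻¹) (mul_mem hs (inv_mem (ht j))) (by
      intro w hw
      have hw' := cmem hP (inv_mem (S_le_P h (ht j))) hw
      have h5 := htj j _ hw'
      have e : t j * ((t j)⁻¹ * w * (t j)⁻¹⁻¹) * (t j)⁻¹ = w := by group
      rw [e] at h5
      have h6 := h1' _ hw'
      have e' : s * ((t j)⁻¹ * w * (t j)⁻¹⁻¹) * s⁻¹ = s * (t j)⁻¹ * w * (s * (t j)⁻¹)⁻¹ := by group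
      rw [e'] at h6
      rw [h6, h5])
    have e2 : s * (t j)⁻¹ * (t j * v * (t j)⁻¹) * (s * (t j)⁻¹)⁻¹ = s * v * s⁻¹ := by group
    rw [e2] at h4
    rw [h4, hydef]
    group
  rw [h3]

omit h in
/-- `τ(v)` -/
noncomputable def tau (N : NatKM K (S : Subgroup G) P (zl (S : Subgroup G) P) ⊥ k) (i : Fin k)
    (F : Subgroup G) (v : G) : G := by
  classical
  exact if h1 : ∃ a ∈ zl (S : Subgroup G) P, (∀ j, N.e a j 1 = 0) ∧
    ∀ t ∈ (S : Subgroup G), N.e (t * a * t⁻¹) i = N.e (rho N i F (t * v * t⁻¹)) i then h1.choose else 1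

theorem tau_spec (hT : Tor (F := F) N i) {v : G} (hv : SS S R v) : tau N i F v ∈ zl (S : Subgroup G) P ∧
    (∀ j, N.e (tau N i F v) j 1 = 0) ∧
    ∀ t ∈ (S : Subgroup G), N.e (t * tau N i F v * t⁻¹) i = N.e (rho N i F (t * v * t⁻¹)) i := by
  classical
  have h1 := exists_tau h hT hv
  unfold tau
  rw [dif_pos h1]
  exact ⟨h1.choose_spec.1, h1.choose_spec.2.1, h1.choose_spec.2.2⟩

theorem tau_conj (hT : Tor (F := F) N i) {v : G} (hv : SS S R v) {s : G} (hs : s ∈ (S : Subgroup G)) :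
    tau N i F (s * v * s⁻¹) = s * tau N i F v * s⁻¹ := by
  have h1 := tau_spec h hT hv
  have h2 := tau_spec h hT (SS_conj h hv hs)
  refine sep (N := N) i h2.1 (cmem norm_U (S_le_P h hs) h1.1) ((S_le_P h).trans norm_U) fun t ht => ?_
  have h3 := h1.2.2 (t * s) (mul_mem ht hs)
  have e1 : t * s * v * (t * s)⁻¹ = t * (s * v * s⁻¹) * t⁻¹ := by group
  have e2 : t * s * tau N i F v * (t * s)⁻¹ = t * (s * tau N i F v * s⁻¹) * t⁻¹ := by group
  rw [e1, e2] at h3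
  rw [h3, h2.2.2 t ht]

theorem tau_full (hT : Tor (F := F) N i) {v : G} (hv : SS S R v) (j : Fin k) : N.e (tau N i F v) j ≠ 0 := by
  intro h0
  obtain ⟨hU, -, h1⟩ := tau_spec h hT hv
  obtain ⟨t, ht, h2⟩ := N.trans j i
  have h3 := (h2 _ hU).2 h0
  rw [h1 t ht] at h3
  exact rtv_ne' (rho_spec h (SS_conj h hv ht)).1 (rho_ne h (SS_conj h hv ht)) h3

/-- `τ(v)` commutes with `B` -/
theorem tau_B (hT : Tor (F := F) N i) {v : G} (hv : SS S R v) {b : G} (hb : b ∈ B) :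
    tau N i F v * b = b * tau N i F v := by
  have h1 := tau_conj h hT hv (h.BS hb)
  have h2 : b * v * b⁻¹ = v := by
    have := mem_centralizer_iff.1 (h.comm (SS_mem h hv).2) b hb
    rw [this, mul_inv_cancel_right]
  rw [h2] at h1
  have h3 : tau N i F v * b = b * tau N i F v * b⁻¹ * b := by rw [← h1]
  rw [h3, inv_mul_cancel_right]

/-- `v τ(v) ∈ F` -/
theorem mem_F (hT : Tor (F := F) N i)
    (hCE : ∀ r ∈ EE V F, r ∈ centralizer (B : Set G) → ∃ s, Rtv N i s ∧ s⁻¹ * r ∈ F)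
    {v : G} (hv : SS S R v) : v * tau N i F v ∈ F := by
  obtain ⟨hU, hU1, ht⟩ := tau_spec h hT hv
  obtain ⟨hR, hvF⟩ := rho_spec h hv
  set T := tau N i F v with hTdef
  set ρ := rho N i F v with hρdef
  have hρU : ρ ∈ zl (S : Subgroup G) P := hR.1.1
  have hE : T * ρ⁻¹ ∈ EE V F := h.rtE _ (mul_mem hU (inv_mem hρU)) fun j => by
    rw [e_mul hU (inv_mem hρU), e_inv hρU, Pi.add_apply, Pi.add_apply, Pi.neg_apply, Pi.neg_apply, hU1]
    by_cases hj : j = i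
    · rw [hj, hR.2, neg_zero, add_zero]
    · rw [hR.1.2 j hj]; simp
  have hB : T * ρ⁻¹ ∈ centralizer (B : Set G) := by
    rw [mem_centralizer_iff]
    intro b hb
    have e1 : T * b = b * T := tau_B h hT hv hb
    have e2 : b * ρ = ρ * b := mem_centralizer_iff.1 (h.comm (h.rtB _ hR)) b hb
    have e3 : b * ρ⁻¹ = ρ⁻¹ * b := by
      calc b * ρ⁻¹ = ρ⁻¹ * (ρ * b) * ρ⁻¹ := by group
        _ = ρ⁻¹ * (b * ρ) * ρ⁻¹ := by rw [e2]
        _ = ρ⁻¹ * b := by group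
    rw [← mul_assoc, ← e1, mul_assoc, e3, ← mul_assoc]
  obtain ⟨s, hs, hsF⟩ := hCE _ hE hB
  have hsU : s ∈ zl (S : Subgroup G) P := hs.1.1
  obtain ⟨j, hj⟩ := h.nfull _ hsF (mul_mem (inv_mem hsU) (mul_mem hU (inv_mem hρU)))
  have e1 : N.e (s⁻¹ * (T * ρ⁻¹)) = - N.e s + (N.e T + - N.e ρ) := by
    rw [e_mul (inv_mem hsU) (mul_mem hU (inv_mem hρU)), e_inv hsU, e_mul hU (inv_mem hρU), e_inv hρU]
  have hji : j = i := by
    by_contra hji
    rw [e1, Pi.add_apply, Pi.add_apply, Pi.neg_apply, Pi.neg_apply, hs.1.2 j hji, hR.1.2 j hji, neg_zero,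
      add_zero, zero_add] at hj
    exact tau_full h hT hv j hj
  rw [hji] at hj
  have h1 := ht 1 (one_mem _)
  have e2 : (1 : G) * T * 1⁻¹ = T := by group
  have e3 : (1 : G) * v * 1⁻¹ = v := by group
  rw [e2, e3] at h1
  have hs1 : s = 1 := by
    by_contra hs1
    apply rtv_ne' hs hs1
    rw [e1, Pi.add_apply, Pi.add_apply, Pi.neg_apply, Pi.neg_apply, h1, add_neg_cancel, add_zero] at hj
    exact neg_eq_zero.1 hj
  rw [hs1, inv_one, one_mul] at hsF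
  -- `v T = (ρ⁻¹ v) (T ρ⁻¹) ρ²`
  have hvV : v ∈ V := (SS_mem h hv).1
  have hTV : T ∈ V := h.UV hU
  have hρV : ρ ∈ V := h.UV hρU
  have hρ2 : ρ⁻¹ = ρ := h.flat.inv hρV
  have h2 := mul_mem hvF hsF
  have e4 : ρ⁻¹ * v * (T * ρ⁻¹) = v * T := by
    rw [h.flat.V_comm (inv_mem hρV) hvV, h.flat.V_comm hTV (inv_mem hρV), mul_assoc, ← mul_assoc ρ⁻¹ ρ⁻¹ T]
    have h3 : ρ⁻¹ * ρ⁻¹ = 1 := by nth_rw 2 [hρ2]; exact inv_mul_cancel ρ
    rw [h3, one_mul]
  rwa [e4] at h2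

end main

/-- **P9b.** -/
theorem p9b : StP9b.{u} := by
  intro G _ _ S V F B P R p K _ _ _ k N i β h hT hCE
  refine ⟨tau N i F, fun g hg v hv hv1 => ?_⟩
  have hS : SS S R v := ⟨hv1, g, hg, hv⟩
  exact ⟨(tau_spec h hT hS).1, tau_full h hT hS, mem_F h hT hCE hS, fun s hs => tau_conj h hT hS hs⟩

end Cfsg.Agent.Omega.NOThreeL.Low.EqB

end

section


/-!
# THEOREM R-LOW (#21762, helper597): definitions and the statements of the parts

Box R of NO-3L (`Data S`, some `C_Z(P) ≠ 1`), not (A), `V* = ⟨Z^M₀⟩` not FF: `V* ≤ Q = O₂(C_G(Z))`.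

* `SitR S V F B P` : the situation after the gallery argument: `U = zl S P` is a bad line on `S`, its points meet
  `F` trivially;
* `SitG Fa S V F B P` : moreover the lines of the members of `Fa` are in `V`, the good ones in `B`;
* `NSitR` : the natural case with trivial radical (`C_U(O²P) = 1`), same field names as `Low.NSit`;
* `StR1`, … : the statements of the parts.

`Blk`, `Rtv`, `Tor` are those of THEOREM LOW.
-/

set_option autoImplicit false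

namespace Cfsg.Agent.Omega.NOThreeL.RLow

open Subgroup Cfsg Cfsg.Agent.ZN Cfsg.Agent.Omega.MinPar Cfsg.Agent.Omega.Frame Cfsg.Agent.Omega.FrameNOFF
open Cfsg.Agent.Omega.Node.NO3L (Data)
open Cfsg.Agent.Omega.NOThreeL.Basic (CaseA WP)
open Cfsg.Agent.Omega.NOThreeL.Merge (MZ)
open Cfsg.Agent.Omega.NOThreeL.Low (Blk Rtv Tor)
open Cfsg.Agent.Omega.NOne.Flat (Hyp EE WW NN BadX)
open Cfsg.Agent.Omega.NOne.NearFF (c)
open Cfsg.Agent.Omega.NO3S (FFMod)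
open Cfsg.Agent.Omega.FrameFF (cv)
open Cfsg.Agent.Omega.FFThm (OffM NatKM SymKM)
open Cfsg.Agent.Omega.NatPair (ap)
open Cfsg.Agent.Lib.SL2Mat (up)
open scoped Pointwise

universe u

section defs

variable {G : Type u} [Group G] [Finite G]

/-- **The situation** (output of `StR1`). -/
structure SitR (S : Sylow 2 G) (V F B P : Subgroup G) : Prop where
  ctx : Ctx G
  D : Data (S : Subgroup G)
  notA : ¬ CaseA (S : Subgroup G)
  flat : Hyp V F
  VS : V ≤ (S : Subgroup G)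
  hP : IsParS (S : Subgroup G) P
  UV : zl (S : Subgroup G) P ≤ V
  /-- `U = V_P` is bad -/
  bad : ¬ zl (S : Subgroup G) P ≤ EE V F
  FB : F ≤ B
  BW : B ≤ WW V F
  /-- `B` is normal in `X = C_G(F)` -/
  XB : centralizer (F : Set G) ≤ normalizer (B : Set G)
  comm : B ≤ centralizer (B : Set G)
  sq : ∀ b ∈ B, b ^ 2 = 1
  BS : B ≤ (S : Subgroup G)
  CB : WW V F ⊓ centralizer (B : Set G) ≤ (S : Subgroup G)
  ZB : zc (S : Subgroup G) ≤ B
  /-- **(S+)**: the points of the bad line meet `F` trivially -/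
  pt0 : ∀ g ∈ P, MulAut.conj g • zc (S : Subgroup G) ⊓ F = ⊥
  /-- box R: `|Z| ≥ 4` -/
  card : 2 < Nat.card (zc (S : Subgroup G))

/-- **(S+)**: the points of the bad line meet `F` trivially. -/
theorem SitR.pt {S : Sylow 2 G} {V F B P : Subgroup G} (s : SitR S V F B P) (Q : Subgroup G)
    (_ : IsParS (S : Subgroup G) Q) (_ : ¬ zl (S : Subgroup G) Q ≤ EE V F) (g : G) (hg : g ∈ Q)
    (e : Q = P := by rfl) : MulAut.conj g • zc (S : Subgroup G) ⊓ F = ⊥ := s.pt0 g (e ▸ hg)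

/-- **The situation for a set `Fa` of minimal parabolics**: their lines are in `V`. -/
structure SitG (Fa : Set (Subgroup G)) (S : Sylow 2 G) (V F B P : Subgroup G) : Prop extends
    SitR S V F B P where
  /-- all lines of the family on `S` are in `V` -/
  LV : ∀ Q ∈ Fa, zl (S : Subgroup G) Q ≤ V
  /-- the good lines of the family are in `B` -/
  good : ∀ Q ∈ Fa, zl (S : Subgroup G) Q ≤ EE V F → zl (S : Subgroup G) Q ≤ B
  /-- **(S+)**: points of bad lines of the family meet `F` trivially -/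
  ptA : ∀ Q ∈ Fa, ¬ zl (S : Subgroup G) Q ≤ EE V F → ∀ g ∈ Q, MulAut.conj g • zc (S : Subgroup G) ⊓ F = ⊥

end defs

section nsit

variable {G : Type u} [Group G] [Finite G]

/-- **The natural situation** at a bad block `i`; same field names as `Low.NSit`. -/
structure NSitR (S : Sylow 2 G) (V F B P : Subgroup G) {K : Type} [Field K] {k : ℕ}
    (N : NatKM K (S : Subgroup G) P (zl (S : Subgroup G) P) ⊥ k) (i : Fin k) (β : G → K) : Prop
    extends SitR S V F B P where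
  /-- the block is bad -/
  bad_i : ∃ w, Blk N i w ∧ w ∉ EE V F
  βmul : ∀ b ∈ B, ∀ c ∈ B, β (b * c) = β b + β c
  βsurj : ∀ x : K, ∃ b ∈ B, β b = x
  /-- `B ∩ N = C_B(N_i)` -/
  βN : ∀ b ∈ B, β b = 0 ↔ b ∈ NN V F
  /-- `B` acts on `N_i` as the full root group -/
  act : ∀ b ∈ B, ∀ v, Blk N i v → Blk N i (b * v * b⁻¹) ∧ N.e (b * v * b⁻¹) i = ap (up (β b)) (N.e v i)
  /-- `N_i ∩ E = R_i` -/
  blkE : ∀ v, Blk N i v → (v ∈ EE V F ↔ N.e v i 1 = 0)
  /-- `N_i ∩ F = 1` -/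
  blkF : ∀ v, Blk N i v → v ∈ F → v = 1
  /-- `R_i ≤ B` -/
  rtB : ∀ v, Rtv N i v → v ∈ B
  /-- all `R_j ≤ E` -/
  rtE : ∀ v ∈ zl (S : Subgroup G) P, (∀ j, N.e v j 1 = 0) → v ∈ EE V F
  /-- `I = V ∩ B = R_i × F` -/
  I : ∀ a ∈ V ⊓ B, ∃ r, Rtv N i r ∧ r⁻¹ * a ∈ F
  cardB : (NN V F).relIndex B = Nat.card K
  /-- (*) `ζ ζ_i ∈ F` -/
  zF : ∀ z ∈ zc (S : Subgroup G), ∃ r, Rtv N i r ∧ N.e r i = N.e z i ∧ r⁻¹ * z ∈ F
  /-- no full-support vector of `U` is in `F` -/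
  nfull : ∀ f ∈ F, f ∈ zl (S : Subgroup G) P → ∃ j, N.e f j = 0
  /-- full-support vectors of `U` are in points of `U` -/
  full : ∀ v ∈ zl (S : Subgroup G) P, (∀ j, N.e v j ≠ 0) → ∃ g ∈ P, v ∈ MulAut.conj g • zc (S : Subgroup G)

end nsit

/-! ### The statements of the parts -/

section parts

/-- **R1** (597): the front. -/
def StR1 : Prop :=
  ∀ (G : Type u) [Group G] [Finite G], Ctx G → ∀ S : Sylow 2 G, Full (S : Subgroup G) → Data (S : Subgroup G) →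
    ¬ CaseA (S : Subgroup G) →
    (∃ P, IsParS (S : Subgroup G) P ∧ zc (S : Subgroup G) ⊓ centralizer (P : Set G) ≠ ⊥) →
    ¬ FFMod (S : Subgroup G) (MZ (S : Subgroup G)) →
    ¬ zl (S : Subgroup G) (MZ (S : Subgroup G)) ≤ o2 (CZ (S : Subgroup G)) →
      ∃ V F B P, SitG {Q | IsParS (S : Subgroup G) Q} S V F B P

/-- **RA**: `U` is an FF-module. -/
def StRA : Prop :=
  ∀ (G : Type u) [Group G] [Finite G] (S : Sylow 2 G) (V F B P : Subgroup G), SitR S V F B P →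
    ∃ A ≤ P, OffM (zl (S : Subgroup G) P) A

/-- **RB**: `U` is not of symmetric type (radical or not). -/
def StRB : Prop :=
  ∀ (G : Type u) [Group G] [Finite G] (S : Sylow 2 G) (V F B P : Subgroup G), SitR S V F B P →
    ∀ k m : ℕ, 0 < k → 2 ≤ m →
      SymKM (S : Subgroup G) P (zl (S : Subgroup G) P) (cv (S : Subgroup G) P) k m → False

/-- **RC** (k = 1 or D = E_P): natural type: no radical. -/
def StRC : Prop :=
  ∀ (G : Type u) [Group G] [Finite G] (S : Sylow 2 G) (V F B P : Subgroup G), SitR S V F B P →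
    ∀ (K : Type) [Field K] [Finite K] [CharP K 2] (k : ℕ), 0 < k →
      Nonempty (NatKM K (S : Subgroup G) P (zl (S : Subgroup G) P) (cv (S : Subgroup G) P) k) →
      cv (S : Subgroup G) P = ⊥

/-- **RD**: the natural situation. -/
def StRD : Prop :=
  ∀ (G : Type u) [Group G] [Finite G] (S : Sylow 2 G) (V F B P : Subgroup G), SitR S V F B P →
    ∀ (K : Type) [Field K] [Finite K] [CharP K 2] (k : ℕ)
      (N : NatKM K (S : Subgroup G) P (zl (S : Subgroup G) P) ⊥ k), 0 < k →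
      ∃ (i : Fin k) (β : G → K), NSitR S V F B P N i β

/-- **RE**: the torus. -/
def StRE : Prop :=
  ∀ (G : Type u) [Group G] [Finite G] (S : Sylow 2 G) (V F B P : Subgroup G)
    (K : Type) [Field K] [Finite K] [CharP K 2] (k : ℕ)
    (N : NatKM K (S : Subgroup G) P (zl (S : Subgroup G) P) ⊥ k) (i : Fin k) (β : G → K),
    NSitR S V F B P N i β → Tor (F := F) N i

/-- **RF**: (CE) `C_V(B) = R_i F`. -/
def StRF : Prop :=
  ∀ (G : Type u) [Group G] [Finite G] (S : Sylow 2 G) (V F B P : Subgroup G)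
    (K : Type) [Field K] [Finite K] [CharP K 2] (k : ℕ)
    (N : NatKM K (S : Subgroup G) P (zl (S : Subgroup G) P) ⊥ k) (i : Fin k) (β : G → K),
    NSitR S V F B P N i β → ∀ r ∈ V, (∀ b ∈ B, b * r = r * b) → ∃ s, Rtv N i s ∧ s⁻¹ * r ∈ F

/-- **R2** (319): `k ≥ 2` is impossible. -/
def StR2 : Prop :=
  ∀ (G : Type u) [Group G] [Finite G] (S : Sylow 2 G) (V F B P : Subgroup G)
    (K : Type) [Field K] [Finite K] [CharP K 2] (k : ℕ)
    (N : NatKM K (S : Subgroup G) P (zl (S : Subgroup G) P) ⊥ k) (i : Fin k) (β : G → K),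
    NSitR S V F B P N i β →
    (∀ r ∈ V, (∀ b ∈ B, b * r = r * b) → ∃ s, Rtv N i s ∧ s⁻¹ * r ∈ F) → 2 ≤ k → False

/-- **R3** (920): `k = 1` is impossible if there is a radical line. -/
def StR3 : Prop :=
  ∀ (G : Type u) [Group G] [Finite G] (S : Sylow 2 G) (V F B P : Subgroup G)
    (K : Type) [Field K] [Finite K] [CharP K 2]
    (N : NatKM K (S : Subgroup G) P (zl (S : Subgroup G) P) ⊥ 1) (β : G → K),
    NSitR S V F B P N 0 β → Tor (F := F) N 0 →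
    ∀ R : Subgroup G, IsParS (S : Subgroup G) R → zc (S : Subgroup G) ⊓ centralizer (R : Set G) ≠ ⊥ →
      zl (S : Subgroup G) R ≤ V → zl (S : Subgroup G) R ≤ B → False

end parts

end Cfsg.Agent.Omega.NOThreeL.RLow

end

section


/-!
# THEOREM R-LOW (#21762, helper597), part RF: (CE) `C_V(B) = R_i F`

Port of `Low/CE.lean` (P9a of THEOREM LOW) to the frame `NSitR`; `r ∈ V` instead of `r ∈ E`: for `r ∈ V - E` the
commutators `[r, B] F` are not trivial (`β` is onto).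

* `bh_of_sit` : `BH V F B`;
* `stRF : StRF`.
-/

set_option autoImplicit false

namespace Cfsg.Agent.Omega.NOThreeL.RLow.CER

open Subgroup Cfsg Cfsg.Agent.ZN Cfsg.Agent.Omega.MinPar Cfsg.Agent.Omega.NoFF.Basic
open Cfsg.Agent.Omega.NOne.Flat (Hyp EE WW NN BadX badX_inv conj_eq_of_cent)
open Cfsg.Agent.Omega.NOne.Flat.Hyp (W_le_X E_le_W NN_le_W)
open Cfsg.Agent.Omega.NOne.NearFF (c c_def)
open Cfsg.Agent.Omega.NOThreeL.Low (Blk Rtv)
open Cfsg.Agent.Omega.NOThreeL.Low.Key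
open Cfsg.Agent.Omega.NOThreeL.Low.CE (blk_conj blk_ext blk_mul blk_inv e_mul_inv)
open Cfsg.Agent.Omega.NOThreeL.NF
open Cfsg.Agent.Omega.FFThm (NatKM)
open Cfsg.Agent.Omega.NatPair (ap)
open Cfsg.Agent.Lib.SL2Mat (up)
open scoped Pointwise

universe u

variable {G : Type u} [Group G]

theorem bh_of_sit [Finite G] {S : Sylow 2 G} {V F B P : Subgroup G} (s : SitR S V F B P) : BH V F B :=
  { toHyp := s.flat, le_W := s.BW, F_le := s.FB, abel := s.comm, norm := s.XB }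

/-- **RF** : (CE) `C_V(B) = R_i F`. -/
theorem stRF : StRF.{u} := by
  intro G _ _ S V F B P K _ _ _ k N i β n r hrV hrB0
  have s := n.toSitR
  have hrB : r ∈ centralizer (B : Set G) := mem_centralizer_iff.2 hrB0
  -- `r ∈ E`
  have hrE : r ∈ EE V F := by
    by_contra hrE
    obtain ⟨b, hbB, hb1⟩ := n.βsurj 1
    have h1 : c r b ∈ F := by
      have e : c r b = 1 := by
        rw [c_def]
        have := hrB0 b hbB
        calc _ = r * (b * r⁻¹) * b⁻¹ := by group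
          _ = r * (r⁻¹ * b) * b⁻¹ := by
            have e3 : b * r⁻¹ = r⁻¹ * b := by
              calc b * r⁻¹ = r⁻¹ * (r * b) * r⁻¹ := by group
                _ = r⁻¹ * (b * r) * r⁻¹ := by rw [this]
                _ = r⁻¹ * b := by group
            rw [e3]
          _ = 1 := by group
      rw [e]; exact one_mem _
    have h2 : b ∈ NN V F := (s.flat.c_mem_F_iff hrV hrE (s.BW hbB)).1 h1
    have h3 : β b = 0 := (n.βN b hbB).2 h2
    rw [hb1] at h3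
    exact one_ne_zero h3
  have bh : BH V F B := bh_of_sit s
  have hF := s.flat
  have hSP : (S : Subgroup G) ≤ P := s.hP.le
  have hPU : P ≤ normalizer (zl (S : Subgroup G) P : Set G) := ZN.le_normalizer_zl _ _
  obtain ⟨x, hx, hb⟩ := exists_bad hF
  have hxi : x⁻¹ ∈ centralizer (F : Set G) := inv_mem hx
  -- `r' = x⁻¹ r x`
  obtain ⟨r', hr'⟩ : ∃ r', r' = x⁻¹ * r * x := ⟨_, rfl⟩
  have hrr : r = x * r' * x⁻¹ := by rw [hr']; group
  have hr'W : r' ∈ WW V F := by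
    have h1 : r' ∈ MulAut.conj x⁻¹ • EE V F := by
      rw [mem_conj, hr']
      have e : x⁻¹⁻¹ * (x⁻¹ * r * x) * x⁻¹ = r := by group
      rwa [e]
    exact NOne.Flat.Hyp.conjE_le_W hxi h1
  have hr'B : ∀ b ∈ B, b * r' = r' * b := by
    intro b hbB
    have h1 : x * b * x⁻¹ ∈ B := norm_conj_mem (s.XB hx) hbB
    have h2 := mem_centralizer_iff.1 hrB _ h1
    have e1 : b * r' = x⁻¹ * (x * b * x⁻¹ * r) * x := by rw [hr']; group
    have e2 : r' * b = x⁻¹ * (r * (x * b * x⁻¹)) * x := by rw [hr']; group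
    rw [e1, e2, h2]
  have hr'S : r' ∈ (S : Subgroup G) := s.CB (mem_inf.2 ⟨hr'W, mem_centralizer_iff.2 hr'B⟩)
  -- `r'` normalises the block
  have hblk : ∀ v, Blk N i v → Blk N i (r' * v * r'⁻¹) := fun v hv => by
    refine blk_conj hSP hPU hr'S (fun v hv => ?_) hv
    rw [← hr'B v (n.rtB v hv)]; group
  obtain ⟨w, hw, hwE⟩ := n.bad_i
  have hwV : w ∈ V := s.UV hw.1
  have hw1 : N.e w i 1 ≠ 0 := fun h0 => hwE ((n.blkE w hw).2 h0)
  -- `d = [w, r']`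
  have hd : Blk N i (w * (r' * w * r'⁻¹)⁻¹) := blk_mul hw (blk_inv (hblk w hw))
  obtain ⟨d, hdd⟩ : ∃ d, d = w * (r' * w * r'⁻¹)⁻¹ := ⟨_, rfl⟩
  rw [← hdd] at hd
  have hdV : d ∈ V := s.UV hd.1
  have hdc : ∀ b ∈ B, b * d * b⁻¹ = d := by
    intro b hbB
    -- `b w b⁻¹ = z⁻¹ w`, `z = [w, b] ∈ V ∩ B`
    have hz := bh.c_memI hwV hbB
    obtain ⟨z, hzz⟩ : ∃ z, z = c w b := ⟨_, rfl⟩
    rw [← hzz] at hz
    have e1 : b * w * b⁻¹ = z⁻¹ * w := by rw [hzz, c_def]; group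
    have e2 : b * r' * b⁻¹ = r' := by rw [hr'B b hbB]; group
    have e3 : r' * z * r'⁻¹ = z := by rw [← hr'B z hz.2]; group
    have e4 : b * d * b⁻¹ = (b * w * b⁻¹) * ((b * r' * b⁻¹) * (b * w * b⁻¹) * (b * r' * b⁻¹)⁻¹)⁻¹ := by
      rw [hdd]; group
    have e5 : z * d = d * z := hF.V_comm hz.1 hdV
    have e6 : z⁻¹ * w * (r' * (z⁻¹ * w) * r'⁻¹)⁻¹ = z⁻¹ * d * (r' * z * r'⁻¹) := by rw [hdd]; group
    rw [e4, e1, e2, e6, e3, mul_assoc, ← e5, inv_mul_cancel_left]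
  -- `d ∈ R_i`
  have hd1 : N.e d i 1 = 0 := by
    obtain ⟨b, hbB, hb1⟩ := n.βsurj 1
    have h1 := (n.act b hbB d hd).2
    rw [hdc b hbB, hb1, NatR.ap_up] at h1
    have h2 := congrFun h1 0
    simpa using h2
  -- `[w, b] = d`
  obtain ⟨b, hbB, hb1⟩ := n.βsurj (- (N.e d i 0 / N.e w i 1))
  have hwb : w * (b * w * b⁻¹)⁻¹ = d := by
    refine blk_ext (N := N) (blk_mul hw (blk_inv (n.act b hbB w hw).1)) hd ?_
    rw [e_mul_inv hw (n.act b hbB w hw).1, (n.act b hbB w hw).2, hb1, NatR.ap_up]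
    funext j
    fin_cases j
    · simp [hw1]
    · simp [hd1]
  have hbr : c w (b⁻¹ * r') = 1 := by
    have h1 : b * w * b⁻¹ = r' * w * r'⁻¹ := by
      rw [hdd] at hwb
      exact inv_injective (mul_left_cancel hwb)
    have h2 : (b⁻¹ * r') * w * (b⁻¹ * r')⁻¹ = w := by
      calc (b⁻¹ * r') * w * (b⁻¹ * r')⁻¹ = b⁻¹ * (r' * w * r'⁻¹) * b := by group
        _ = b⁻¹ * (b * w * b⁻¹) * b := by rw [h1]
        _ = w := by group
    have e : c w (b⁻¹ * r') = w * ((b⁻¹ * r') * w * (b⁻¹ * r')⁻¹)⁻¹ := by rw [c_def]; group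
    rw [e, h2, mul_inv_cancel]
  have hN : b⁻¹ * r' ∈ NN V F :=
    (hF.c_mem_F_iff hwV hwE (mul_mem (inv_mem (s.BW hbB)) hr'W)).1 (by rw [hbr]; exact one_mem _)
  -- `b' = x b x⁻¹ = a m`, `a ∈ V ∩ B`, `m ∈ N^x`
  obtain ⟨f, hf, hfb⟩ := bh.exists_conjI_mul hxi (badX_inv hb) hbB
  rw [mem_conj, inv_inv] at hf
  -- `a = x f x⁻¹`, `a⁻¹ r = x (f⁻¹ b) (b⁻¹ r') x⁻¹ ∈ N^x ∩ E = F`
  have h1 : (x * f * x⁻¹)⁻¹ * r ∈ EE V F := mul_mem (inv_mem (bh.I_le_E hf)) hrE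
  have h2 : (x * f * x⁻¹)⁻¹ * r ∈ MulAut.conj x • NN V F := by
    rw [mem_conj]
    have e : x⁻¹ * ((x * f * x⁻¹)⁻¹ * r) * x = (f⁻¹ * b) * (b⁻¹ * r') := by rw [hrr]; group
    rw [e]
    exact mul_mem hfb hN
  have h3 : (x * f * x⁻¹)⁻¹ * r ∈ F := by
    rw [← hF.E_inf_conjNN hx hb]
    exact mem_inf.2 ⟨h1, h2⟩
  obtain ⟨q, hq, hqF⟩ := n.I _ hf
  refine ⟨q, hq, ?_⟩
  have e : q⁻¹ * r = (q⁻¹ * (x * f * x⁻¹)) * ((x * f * x⁻¹)⁻¹ * r) := by group
  rw [e]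
  exact mul_mem hqF h3

end Cfsg.Agent.Omega.NOThreeL.RLow.CER

end
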