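import Cfsg.Agent.Mrg.Omega.NOThreeL.Low.Defs
import Cfsg.Agent.Mrg.Omega.NOne.Flat.Off
import Cfsg.Agent.Mrg.Omega.NOThreeL.NF.Nat
import Cfsg.Agent.PLocal.OffenderStep

section


/-!
# THEOREM LOW (#19191), P8 = TORUS

* `blk N i` : the block `N_i` as a subgroup;
* `core_of` : the situation `Core` of `TorusCore` from `NSit`, `x ∈ C_G(F)` bad;
* **`p8 : StP8`**;
* `point_of` : if `g ∈ C_G(F)` acts on `R_i` as the multiplication by `l ≠ 0`, then `Z^g` is a point of `U`;
* `tor_point` : for `r, r' ∈ R_i#` some `g ∈ C_G(F)` maps `r` to `r'` and `Z^g` is a point of `U`.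
-/

set_option autoImplicit false

namespace Cfsg.Agent.Omega.NOThreeL.Low

open Subgroup Cfsg Cfsg.Agent.ZN Cfsg.Agent.Omega.MinPar Cfsg.Agent.Omega.Frame Cfsg.Agent.Omega.FrameNOFF
open Cfsg.Agent.Omega.NoFF.Basic (mem_conj)
open Cfsg.Agent.Omega.NOne.Frame (mem_conj')
open Cfsg.Agent.Omega.NOne.Flat (Hyp EE WW NN BadX)
open Cfsg.Agent.Omega.FFThm (NatKM ActsSL)
open Cfsg.Agent.Omega.NatPair (ap ap_zero' ap_one' ap_one ext2)
open Cfsg.Agent.Lib.SL2Mat
open scoped Pointwise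

universe u

section blk

variable {G : Type u} [Group G] {K : Type} [Field K] {S P U : Subgroup G} {k : ℕ}

/-- The block `N_i`. -/
def blk (N : NatKM K S P U ⊥ k) (i : Fin k) : Subgroup G where
  carrier := {v | Blk N i v}
  mul_mem' := by
    rintro a b ⟨ha, ha'⟩ ⟨hb, hb'⟩
    exact ⟨mul_mem ha hb, fun j hj => by rw [N.mul a ha b hb, Pi.add_apply, ha' j hj, hb' j hj, add_zero]⟩
  one_mem' := ⟨one_mem _, fun j _ => by rw [NF.NatR.e_one (M := N)]; rfl⟩
  inv_mem' := by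
    rintro a ⟨ha, ha'⟩
    exact ⟨inv_mem ha, fun j hj => by rw [NF.NatR.e_inv (M := N) ha, Pi.neg_apply, ha' j hj, neg_zero]⟩

theorem mem_blk {N : NatKM K S P U ⊥ k} {i : Fin k} {v : G} : v ∈ blk N i ↔ Blk N i v := Iff.rfl

theorem exists_blk (N : NatKM K S P U ⊥ k) (i : Fin k) (y : Fin 2 → K) : ∃ a ∈ blk N i, N.e a i = y := by
  classical
  obtain ⟨v, hv, hev⟩ := N.surj (Pi.single i y)
  exact ⟨v, ⟨hv, fun j hj => by rw [hev]; exact Pi.single_eq_of_ne hj _⟩, by rw [hev, Pi.single_eq_same]⟩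

end blk

variable {G : Type u} [Group G] [Finite G] {S : Sylow 2 G} {V F B P R : Subgroup G} {p : G}
  {K : Type} [Field K] {k : ℕ} {N : NatKM K (S : Subgroup G) P (zl (S : Subgroup G) P) ⊥ k} {i : Fin k} {β : G → K}

namespace NSit

variable (s : NSit S V F B P R p N i β)
include s

theorem blk_le_V : blk N i ≤ V := fun _ hv => s.UV hv.1

/-- `β b = 0` if `b ∈ B` centralises `N_i` -/
theorem mem_NN_of_comm {b : G} (hb : b ∈ B) (h : ∀ n ∈ blk N i, b * n = n * b) : b ∈ NN V F := by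
  refine (s.βN b hb).1 ?_
  obtain ⟨a, ha, hea⟩ := exists_blk N i ![0, 1]
  have h1 := (s.act b hb a ha).2
  rw [h a ha, mul_inv_cancel_right, hea, NF.NatR.ap_up] at h1
  have h2 := congrFun h1 0
  simpa using h2.symm

/-- The situation of `TorusCore`. -/
theorem core_of {x : G} (hx : x ∈ centralizer (F : Set G)) (hb : BadX V x) :
    Core (centralizer (F : Set G)) V B (blk N i) (fun v => N.e v i) β x := by
  have hRE : ∀ a ∈ blk N i, N.e a i 1 = 0 → a ∈ EE V F := fun a ha h => (s.blkE a ha).2 h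
  have hBc : ∀ a ∈ B, ∀ b ∈ B, a * b = b * a := fun a ha b hb => (mem_centralizer_iff.1 (s.comm ha) b hb).symm
  have hxF : ∀ {y f : G}, y ∈ centralizer (F : Set G) → f ∈ F → y * f * y⁻¹ = f := fun {y f} hy hf => by
    have := mem_centralizer_iff.1 hy f hf
    rw [← this, mul_inv_cancel_right]
  refine ⟨s.blk_le_V, fun a ha b hb => s.flat.V_comm ha hb, s.flat.V_le_X, s.XB, hBc,
    fun a ha => by rw [← pow_two]; exact s.sq a ha, fun a ha b hb => ?_, fun a ha h => ?_,
    fun y => exists_blk N i y, fun a ha h => s.rtB a ⟨ha, h⟩, fun b hb a ha => ?_, hx,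
    fun g hg a ha hne hca a' ha' hca' he v hv w hw => ?_, fun a ha hca h => ?_, fun a ha hca h => ?_⟩
  · rw [N.mul a ha.1 b hb.1, Pi.add_apply]
  · have h1 : N.e a = 0 := by
      funext j
      by_cases hj : j = i
      · subst hj; exact h
      · exact ha.2 j hj
    exact mem_bot.1 ((N.ker a ha.1).1 h1)
  · obtain ⟨h1, h2⟩ := s.act b hb a ha
    exact ⟨h1, by rw [h2, NF.NatR.ap_up]⟩
  · -- `ti`
    have h1 : a ∈ V ⊓ MulAut.conj g • V := by
      refine ⟨s.blk_le_V ha, ?_⟩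
      rw [← he]
      exact mem_conj'.2 ⟨a', s.blk_le_V ha', rfl⟩
    have h2 : F < V ⊓ MulAut.conj g • V := by
      refine lt_of_le_of_ne (s.flat.F_le_inf hg) fun h3 => hne (s.blkF a ha ?_)
      rw [h3]; exact h1
    have h3 := s.flat.commute_of_lt hg h2
    have h4 : g * w * g⁻¹ ∈ MulAut.conj g • V := mem_conj'.2 ⟨w, hw, rfl⟩
    exact mem_centralizer_iff.1 (h3 h4) v hv
  · -- `dis`
    have hxa : x * a * x⁻¹ ∈ B := (mem_normalizer_iff.1 (s.XB hx) a).1 (s.rtB a ⟨ha, hca⟩)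
    have h1 : x * a * x⁻¹ ∈ NN V F := s.mem_NN_of_comm hxa h
    have h2 : x * a * x⁻¹ ∈ F := by
      rw [← s.flat.conjE_inf_NN hx hb]
      exact ⟨mem_conj'.2 ⟨a, hRE a ha hca, rfl⟩, h1⟩
    refine s.blkF a ha ?_
    have h3 := hxF (inv_mem hx) h2
    have e1 : x⁻¹ * (x * a * x⁻¹) * x⁻¹⁻¹ = a := by group
    rw [e1] at h3
    rw [h3]; exact h2
  · -- `dis'`
    have hxa : x⁻¹ * a * x ∈ B := by
      have := (mem_normalizer_iff.1 (s.XB (inv_mem hx)) a).1 (s.rtB a ⟨ha, hca⟩)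
      rwa [inv_inv] at this
    have h1 : x⁻¹ * a * x ∈ NN V F := by
      refine s.mem_NN_of_comm hxa fun n hn => ?_
      have h2 := congrArg (fun t => x⁻¹ * t * x) (h n hn)
      have e1 : x⁻¹ * (a * (x * n * x⁻¹)) * x = x⁻¹ * a * x * n := by group
      have e2 : x⁻¹ * (x * n * x⁻¹ * a) * x = n * (x⁻¹ * a * x) := by group
      have h3 : x⁻¹ * (a * (x * n * x⁻¹)) * x = x⁻¹ * (x * n * x⁻¹ * a) * x := h2
      rwa [e1, e2] at h3
    refine s.blkF a ha ?_
    rw [← s.flat.E_inf_conjNN hx hb]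
    exact ⟨hRE a ha hca, mem_conj.2 h1⟩

end NSit

/-- **P8**: the torus. -/
theorem p8 : StP8.{u} := by
  intro G _ _ S V F B P R p K _ _ _ k N i β s l hl
  obtain ⟨x, hx, hb⟩ := Key.exists_bad s.flat
  obtain ⟨g, hg, h⟩ := (s.core_of hx hb).torus hl
  have hle : blk N i ⊔ ChoiceBase.cj x (blk N i) ≤ centralizer (F : Set G) := by
    have h1 : blk N i ≤ centralizer (F : Set G) := s.blk_le_V.trans s.flat.V_le_X
    refine sup_le h1 ?_
    rintro _ ⟨n, hn, rfl⟩
    exact mul_mem (mul_mem hx (h1 hn)) (inv_mem hx)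
  refine ⟨g, hle hg, fun r hr => ?_⟩
  obtain ⟨h1, h2⟩ := h r hr.1 hr.2
  have h2' : N.e (g * r * g⁻¹) i = ![l * N.e r i 0, 0] := h2
  exact ⟨⟨h1, by rw [h2']; rfl⟩, by rw [h2']; rfl⟩

/-! ### `Z^g` is a point of `U` -/

/-- If `g ∈ C_G(F)` acts on `R_i` as the multiplication by `l ≠ 0`, then `Z^g` is a point of `U`. -/
theorem NSit.point_of (s : NSit S V F B P R p N i β) {l : K} (hl : l ≠ 0) {g : G}
    (hg : g ∈ centralizer (F : Set G))
    (h : ∀ r, Rtv N i r → Rtv N i (g * r * g⁻¹) ∧ N.e (g * r * g⁻¹) i 0 = l * N.e r i 0) :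
    ∃ q ∈ P, MulAut.conj g • zc (S : Subgroup G) = MulAut.conj q • zc (S : Subgroup G) := by
  classical
  -- the torus element of the block `i`
  obtain ⟨q, hq, hqa⟩ := N.lift (Pi.mulSingle i (dg l hl))
  refine ⟨q, hq, ?_⟩
  have hzU : ∀ z ∈ zc (S : Subgroup G), z ∈ zl (S : Subgroup G) P := fun z hz =>
    Cfsg.Agent.MinSimple.VModule.zc_le_zl _ _ hz
  have hPU : P ≤ normalizer (zl (S : Subgroup G) P : Set G) := Cfsg.Agent.MinSimple.VModule.le_normalizer_zl _ _
  have key : ∀ z ∈ zc (S : Subgroup G), g * z * g⁻¹ = q * z * q⁻¹ := by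
    intro z hz
    obtain ⟨r, hr, her, hrz⟩ := s.zF z hz
    have hzU' := hzU z hz
    obtain ⟨h1, h2⟩ := h r hr
    have e1 : g * z * g⁻¹ = g * r * g⁻¹ * (r⁻¹ * z) := by
      have h3 := mem_centralizer_iff.1 hg _ hrz
      calc g * z * g⁻¹ = g * r * ((r⁻¹ * z) * g⁻¹) := by group
        _ = g * r * (g⁻¹ * (r⁻¹ * z)) := by
          congr 1
          rw [eq_inv_mul_iff_mul_eq, ← mul_assoc, ← h3, mul_inv_cancel_right]
        _ = _ := by group
    have hrU : r⁻¹ * z ∈ zl (S : Subgroup G) P := mul_mem (inv_mem hr.1.1) hzU'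
    have hzi1 : N.e z i 1 = 0 := by rw [← her]; exact hr.2
    refine NF.NatR.e_inj (M := N) ?_ (NF.NatR.cmem hPU hq hzU') ?_
    · rw [e1]; exact mul_mem h1.1.1 hrU
    · funext j
      rw [e1, N.mul _ h1.1.1 _ hrU, N.mul _ (inv_mem hr.1.1) _ hzU', NF.NatR.e_inv (M := N) hr.1.1, hqa.1 z hzU' j]
      by_cases hj : j = i
      · subst hj
        rw [Pi.add_apply, Pi.add_apply, Pi.neg_apply, her, neg_add_cancel, add_zero, Pi.mulSingle_eq_same]
        refine ext2 ?_ ?_
        · rw [h2, her, ap_zero', dg_00, dg_01]; simp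
        · rw [h1.2, ap_one', dg_10, dg_11, hzi1]; simp
      · rw [Pi.add_apply, Pi.add_apply, Pi.neg_apply, h1.1.2 j hj, hr.1.2 j hj, Pi.mulSingle_eq_of_ne hj, ap_one]
        simp
  ext y
  rw [mem_conj', mem_conj']
  constructor
  · rintro ⟨z, hz, rfl⟩
    exact ⟨z, hz, key z hz⟩
  · rintro ⟨z, hz, rfl⟩
    exact ⟨z, hz, (key z hz).symm⟩

/-- **(T8)** `R_i#` is fused in `C_G(F)` by elements `g` such that `Z^g` is a point of `U`. -/
theorem NSit.tor_point (s : NSit S V F B P R p N i β) (ht : Tor (F := F) N i) {r r' : G} (hr : Rtv N i r)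
    (hr1 : r ≠ 1) (hr' : Rtv N i r') (hr1' : r' ≠ 1) :
    ∃ g ∈ centralizer (F : Set G), g * r * g⁻¹ = r' ∧
      ∃ q ∈ P, MulAut.conj g • zc (S : Subgroup G) = MulAut.conj q • zc (S : Subgroup G) := by
  have hne : ∀ {v : G}, Rtv N i v → v ≠ 1 → N.e v i 0 ≠ 0 := by
    intro v hv hv1 h0
    refine hv1 (mem_bot.1 ((N.ker v hv.1.1).1 ?_))
    funext j
    by_cases hj : j = i
    · subst hj; exact ext2 h0 hv.2
    · exact hv.1.2 j hj
  have h0 := hne hr hr1
  have h0' := hne hr' hr1'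
  have hl : N.e r' i 0 / N.e r i 0 ≠ 0 := div_ne_zero h0' h0
  obtain ⟨g, hg, h⟩ := ht _ hl
  refine ⟨g, hg, ?_, s.point_of hl hg h⟩
  obtain ⟨h1, h2⟩ := h r hr
  refine NF.NatR.e_inj (M := N) h1.1.1 hr'.1.1 ?_
  funext j
  by_cases hj : j = i
  · subst hj
    refine ext2 ?_ (by rw [h1.2, hr'.2])
    rw [h2, div_mul_cancel₀ _ h0]
  · rw [h1.1.2 j hj, hr'.1.2 j hj]

end Cfsg.Agent.Omega.NOThreeL.Low

end

section


/-!
# THEOREM LOW (#19191, helper597), P9c: (END)

`e(v) = v u(v) ∈ F` for the singular `v ∈ V_R`; `⟨e(v)⟩ ≤ F` is `S`-invariant and `Z ∩ F = 1`: `e(v) = 1`, so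
`Z' = Z^p` is a point of `U`; `U' = V_P^p ≤ V ∩ B = R_i F`: `U' ∩ F` meets every block of `U'`, so contains a
full-support vector, against (S++).
-/

set_option autoImplicit false

namespace Cfsg.Agent.Omega.NOThreeL.Low

open Subgroup Cfsg Cfsg.Agent.ZN Cfsg.Agent.Omega.MinPar Cfsg.Agent.Omega.Frame Cfsg.Agent.Omega.FrameNOFF
open Cfsg.Agent.Omega.NOThreeL.Basic (DataZ CaseA WP)
open Cfsg.Agent.Omega.NOThreeL.Merge (MZ)
open Cfsg.Agent.Omega.NOne.Flat (Hyp EE WW NN BadX)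
open Cfsg.Agent.Omega.FFThm (OffM NatKM SymKM)
open Cfsg.Agent.Omega.NoFF.Basic (conj_conj mem_conj)
open scoped Pointwise

universe u

section

variable {G : Type u} [Group G] [Finite G] {S : Sylow 2 G} {V F B P R : Subgroup G} {p : G}

/-- `Z ∩ F = 1` -/
theorem Sit.zF_bot (s : Sit S V F B P R p) : zc (S : Subgroup G) ⊓ F = ⊥ := by
  have h1 := s.spp 1 1 1 P (one_mem P) rfl s.hP (one_mem P)
  rwa [mul_one, map_one, one_smul] at h1

/-- `F` contains no `S`-invariant subgroup `≠ 1` -/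
theorem Sit.eq_bot (s : Sit S V F B P R p) {E : Subgroup G} (hE : E ≤ F)
    (hS : (S : Subgroup G) ≤ normalizer (E : Set G)) : E = ⊥ := by
  by_contra hne
  have hES : E ≤ (S : Subgroup G) := (hE.trans s.FB).trans s.BS
  have h1 := PLocal.OffenderStep.inf_centralizer_ne_bot E (S : Subgroup G) (S.isPGroup'.to_le hES) S.isPGroup' hS hne
  obtain ⟨⟨x, hx⟩, hx1⟩ := Subgroup.ne_bot_iff_exists_ne_one.1 h1
  have hx1' : x ≠ 1 := fun e => hx1 (Subtype.ext e)
  have h2 : x ∈ zc (S : Subgroup G) ⊓ F := by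
    refine ⟨Cfsg.Agent.MinSimple.VModule.mem_zc.2 ⟨hES hx.1, fun y hy => ?_, s.sq x (s.FB (hE hx.1))⟩, hE hx.1⟩
    exact mem_centralizer_iff.1 hx.2 y hy
  rw [s.zF_bot, mem_bot] at h2
  exact hx1' h2

/-- TI for conjugates of `Z` -/
theorem Sit.ti (s : Sit S V F B P R p) {g h v : G} (hv : v ∈ MulAut.conj g • zc (S : Subgroup G))
    (hv' : v ∈ MulAut.conj h • zc (S : Subgroup G)) (hv1 : v ≠ 1) :
    MulAut.conj g • zc (S : Subgroup G) = MulAut.conj h • zc (S : Subgroup G) := by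
  have h1 := RTools.ti_of_cz S s.D.cz (h⁻¹ * g) (by
    intro e
    have h2 : h⁻¹ * v * h ∈ zc (S : Subgroup G) ⊓ MulAut.conj (h⁻¹ * g) • zc (S : Subgroup G) := by
      refine ⟨mem_conj.1 hv', mem_conj.2 ?_⟩
      have e2 : (h⁻¹ * g)⁻¹ * (h⁻¹ * v * h) * (h⁻¹ * g) = g⁻¹ * v * g := by group
      rw [e2]
      exact mem_conj.1 hv
    rw [e, mem_bot] at h2
    apply hv1
    have e3 : v = h * (h⁻¹ * v * h) * h⁻¹ := by group
    rw [e3, h2]
    group)
  have h3 : MulAut.conj h • MulAut.conj (h⁻¹ * g) • zc (S : Subgroup G) = MulAut.conj h • zc (S : Subgroup G) := by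
    rw [h1]
  rwa [conj_conj, mul_inv_cancel_left] at h3

end

/-- **P9c** -/
theorem p9c : StP9c.{u} := by
  intro G _ _ S V F B P R p K _ _ _ k N i β s ⟨u, hu⟩
  have hSR : (S : Subgroup G) ≤ R := s.hR.le
  have hUsq : ∀ v ∈ zl (S : Subgroup G) P, v ^ 2 = 1 := fun v hv => s.flat.sq v (s.UV hv)
  -- `e(v) = 1`
  have he : ∀ g ∈ R, ∀ v ∈ MulAut.conj g • zc (S : Subgroup G), v ≠ 1 → v * u v = 1 := by
    let E : Subgroup G := closure {x | ∃ g ∈ R, ∃ v ∈ MulAut.conj g • zc (S : Subgroup G), v ≠ 1 ∧ x = v * u v}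
    have hEF : E ≤ F := (closure_le _).2 (by
      rintro _ ⟨g, hg, v, hv, hv1, rfl⟩
      exact (hu g hg v hv hv1).2.2.1)
    have hSE : (S : Subgroup G) ≤ normalizer (E : Set G) := by
      have key : ∀ t ∈ (S : Subgroup G), ∀ x ∈ E, t * x * t⁻¹ ∈ E := by
        intro t ht x hx
        induction hx using closure_induction with
        | mem x hx =>
          obtain ⟨g, hg, v, hv, hv1, rfl⟩ := hx
          refine subset_closure ⟨t * g, mul_mem (hSR ht) hg, t * v * t⁻¹, ?_, ?_, ?_⟩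
          · rw [mem_conj]
            have e2 : (t * g)⁻¹ * (t * v * t⁻¹) * (t * g) = g⁻¹ * v * g := by group
            rw [e2]
            exact mem_conj.1 hv
          · exact fun h => hv1 (conj_eq_one_iff.1 h)
          · rw [(hu g hg v hv hv1).2.2.2 t ht]
            group
        | one => rw [mul_one, mul_inv_cancel]; exact one_mem _
        | mul x y _ _ hx hy =>
          have e : t * (x * y) * t⁻¹ = (t * x * t⁻¹) * (t * y * t⁻¹) := by group
          rw [e]
          exact mul_mem hx hy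
        | inv x _ hx =>
          have e : t * x⁻¹ * t⁻¹ = (t * x * t⁻¹)⁻¹ := by group
          rw [e]
          exact inv_mem hx
      intro t ht
      rw [mem_normalizer_iff]
      refine fun x => ⟨key t ht x, fun h => ?_⟩
      have h1 := key t⁻¹ (inv_mem ht) _ h
      have e : t⁻¹ * (t * x * t⁻¹) * t⁻¹⁻¹ = x := by group
      rwa [e] at h1
    have hE := s.eq_bot hEF hSE
    intro g hg v hv hv1
    have h1 : v * u v ∈ E := subset_closure ⟨g, hg, v, hv, hv1, rfl⟩
    rw [hE, mem_bot] at h1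
    exact h1
  -- `Z' = Z^p` is a point of `U`
  obtain ⟨g, hg, hgp⟩ : ∃ g ∈ P, MulAut.conj p • zc (S : Subgroup G) = MulAut.conj g • zc (S : Subgroup G) := by
    obtain ⟨z, hz, hz1⟩ : ∃ z ∈ zc (S : Subgroup G), z ≠ 1 := by
      by_contra hcon
      push Not at hcon
      refine s.hP.not_zc fun x _ => ?_
      have h1 : zc (S : Subgroup G) = ⊥ := (eq_bot_iff_forall _).2 hcon
      rw [h1]
      rw [mem_normalizer_iff]
      intro y
      rw [mem_bot, mem_bot]
      exact conj_eq_one_iff.symm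
    have hv : p * z * p⁻¹ ∈ MulAut.conj p • zc (S : Subgroup G) := by
      rw [mem_conj]
      have e : p⁻¹ * (p * z * p⁻¹) * p = z := by group
      rwa [e]
    have hv1 : p * z * p⁻¹ ≠ 1 := fun h => hz1 (conj_eq_one_iff.1 h)
    have h1 := he p s.pR _ hv hv1
    obtain ⟨h2, h3, -, -⟩ := hu p s.pR _ hv hv1
    have h4 : p * z * p⁻¹ = u (p * z * p⁻¹) := by
      have h5 := hUsq _ h2
      rw [pow_two] at h5
      exact (mul_eq_one_iff_eq_inv.1 h1).trans (mul_eq_one_iff_eq_inv.1 h5).symm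
    obtain ⟨g, hg, h6⟩ := s.full _ h2 h3
    rw [← h4] at h6
    exact ⟨g, hg, s.toSit.ti hv h6 hv1⟩
  -- every block of `U'` meets `F`
  have hblk : ∀ j : Fin k, ∃ v, Blk N j v ∧ v ≠ 1 ∧ p * v * p⁻¹ ∈ F := by
    intro j
    by_contra hcon
    push Not at hcon
    -- `N'_j → R_i` is injective
    have hI : ∀ v : {v // Blk N j v}, ∃ r, Rtv N i r ∧ r⁻¹ * (p * v * p⁻¹) ∈ F := by
      rintro ⟨v, hv⟩
      have h1 : p * v * p⁻¹ ∈ MulAut.conj p • zl (S : Subgroup G) P := by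
        rw [mem_conj]
        have e : p⁻¹ * (p * v * p⁻¹) * p = v := by group
        rw [e]
        exact hv.1
      exact s.I _ ⟨s.PV h1, s.PB h1⟩
    choose f hf hf' using hI
    have hone : Blk N j (1 : G) := by
      refine ⟨one_mem _, fun j' _ => ?_⟩
      have h2 := (N.ker 1 (one_mem _)).2 (one_mem _)
      rw [h2]
      rfl
    have hmul : ∀ v w, Blk N j v → Blk N j w → Blk N j (v⁻¹ * w) := by
      intro v w hv hw
      have hinv : v⁻¹ = v := by
        have h5 := hUsq _ hv.1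
        rw [pow_two] at h5
        exact inv_eq_of_mul_eq_one_left h5
      rw [hinv]
      refine ⟨mul_mem hv.1 hw.1, fun j' hj' => ?_⟩
      rw [N.mul v hv.1 w hw.1, Pi.add_apply, hv.2 j' hj', hw.2 j' hj', add_zero]
    let φ : {v // Blk N j v} → K := fun v => N.e (f v) i 0
    have hinj : Function.Injective φ := by
      intro v w hvw
      -- `f v = f w`
      have h1 : f v = f w := by
        have h2 : N.e (f v) = N.e (f w) := by
          funext j'
          by_cases hj : j' = i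
          · subst hj
            funext a
            fin_cases a
            · exact hvw
            · exact (hf v).2.trans (hf w).2.symm
          · rw [(hf v).1.2 j' hj, (hf w).1.2 j' hj]
        have h3 : (f v) * (f w) ∈ (⊥ : Subgroup G) := by
          rw [← N.ker _ (mul_mem (hf v).1.1 (hf w).1.1), N.mul _ (hf v).1.1 _ (hf w).1.1, h2]
          funext a b
          exact CharTwo.add_self_eq_zero _
        have h5 := hUsq _ (hf w).1.1
        rw [pow_two] at h5
        exact (mul_eq_one_iff_eq_inv.1 (mem_bot.1 h3)).trans (mul_eq_one_iff_eq_inv.1 h5).symm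
      have h2 := mul_mem (inv_mem (hf' v)) (hf' w)
      rw [h1] at h2
      have e : ((f w)⁻¹ * (p * v * p⁻¹))⁻¹ * ((f w)⁻¹ * (p * w * p⁻¹)) = p * ((v : G)⁻¹ * w) * p⁻¹ := by group
      rw [e] at h2
      have h3 : (v : G)⁻¹ * w = 1 := by
        by_contra h4
        exact hcon _ (hmul _ _ v.2 w.2) h4 h2
      exact Subtype.ext (inv_mul_eq_one.1 h3)
    have hc1 : Nat.card {v // Blk N j v} ≤ Nat.card K := Nat.card_le_card_of_injective φ hinj
    -- `|N_j| = |K|²`
    have hc2 : Nat.card (Fin 2 → K) ≤ Nat.card {v // Blk N j v} := by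
      have h1 : ∀ x : Fin 2 → K, ∃ v : {v // Blk N j v}, N.e v j = x := by
        intro x
        obtain ⟨v, hv, hvx⟩ := N.surj (Pi.single j x)
        refine ⟨⟨v, hv, fun j' hj' => ?_⟩, ?_⟩
        · rw [hvx, Pi.single_eq_of_ne hj']
        · change N.e v j = x
          rw [hvx, Pi.single_eq_same]
      choose ψ hψ using h1
      refine Nat.card_le_card_of_injective ψ fun x y h => ?_
      rw [← hψ x, ← hψ y, h]
    have hc3 := hc2.trans hc1
    rw [Nat.card_pi, Finset.prod_const, Finset.card_univ, Fintype.card_fin] at hc3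
    have hK : 1 < Nat.card K := Finite.one_lt_card
    nlinarith
  choose w hw hw1 hwF using hblk
  -- a full-support vector of `U'` in `F`
  have hprod : ∀ J : Finset (Fin k), ∃ v ∈ zl (S : Subgroup G) P, p * v * p⁻¹ ∈ F ∧
      (∀ j ∈ J, N.e v j = N.e (w j) j) ∧ ∀ j ∉ J, N.e v j = 0 := by
    intro J
    induction J using Finset.induction_on with
    | empty =>
      refine ⟨1, one_mem _, ?_, fun j hj => absurd hj (Finset.notMem_empty j), fun j _ => ?_⟩
      · rw [mul_one, mul_inv_cancel]; exact one_mem _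
      · have h2 := (N.ker 1 (one_mem _)).2 (one_mem _)
        rw [h2]
        rfl
    | insert a J ha ih =>
      obtain ⟨v, hv, hvF, h1, h2⟩ := ih
      refine ⟨v * w a, mul_mem hv (hw a).1, ?_, fun j hj => ?_, fun j hj => ?_⟩
      · have e : p * (v * w a) * p⁻¹ = (p * v * p⁻¹) * (p * w a * p⁻¹) := by group
        rw [e]
        exact mul_mem hvF (hwF a)
      · rw [N.mul v hv _ (hw a).1, Pi.add_apply]
        rcases Finset.mem_insert.1 hj with rfl | hj'
        · rw [h2 j ha, zero_add]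
        · have hja : j ≠ a := fun h => ha (h ▸ hj')
          rw [h1 j hj', (hw a).2 j hja, add_zero]
      · rw [N.mul v hv _ (hw a).1, Pi.add_apply, h2 j fun h => hj (Finset.mem_insert_of_mem h),
          (hw a).2 j fun h => hj (h ▸ Finset.mem_insert_self j J), add_zero]
  obtain ⟨v, hv, hvF, h1, -⟩ := hprod Finset.univ
  have hfull : ∀ j, N.e v j ≠ 0 := by
    intro j h2
    rw [h1 j (Finset.mem_univ j)] at h2
    apply hw1 j
    have h3 : N.e (w j) = 0 := by
      funext j'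
      by_cases hj : j' = j
      · subst hj
        exact h2
      · exact (hw j).2 j' hj
    exact mem_bot.1 ((N.ker _ (hw j).1).1 h3)
  obtain ⟨q, hq, hvq⟩ := s.full v hv hfull
  have h2 := s.spp g p q P hg hgp s.hP hq
  have h3 : p * v * p⁻¹ ∈ MulAut.conj (p * q) • zc (S : Subgroup G) ⊓ F := by
    refine ⟨mem_conj.2 ?_, hvF⟩
    have e : (p * q)⁻¹ * (p * v * p⁻¹) * (p * q) = q⁻¹ * v * q := by group
    rw [e]
    exact mem_conj.1 hvq
  rw [h2, mem_bot] at h3
  have h4 : v = 1 := conj_eq_one_iff.1 h3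
  have h5 := (N.ker 1 (one_mem _)).2 (one_mem _)
  rw [h4] at hfull
  exact hfull i (by rw [h5]; rfl)

end Cfsg.Agent.Omega.NOThreeL.Low

end
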