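import Cfsg.Agent.Mrg.Omega.NOThreeL.NF.Final
import Cfsg.Agent.Mrg.Omega.NOThreeL.Low.Torus
import Cfsg.Agent.SectRankFour.C2.BThreeA
import Cfsg.Agent.Mrg.Omega.NOne.LemmaT
import Cfsg.Agent.Mrg.Omega.NOThreeL.Low.Defs

section


/-!
# NO-3L, LOW (#19093 (8), helper876): movers of a minimal parabolic, natural case

* `PM S P` : every `v ∈ V_P#` lies in `Z`-conjugates under `P`, or some 2-group of `P` centralises `v` and generates `P`
  together with `S`;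
* `eq_of_sup` : `S ≤ K ≤ P`, `P ≤ K C_P(V_P)` gives `K = P`;
* `nat` : `PM S P` if `V_P` is a sum of natural modules, `C_Z(P) = 1`.
-/

set_option autoImplicit false

namespace Cfsg.Agent.Omega.NOThreeL.Low

open Subgroup Cfsg
open Cfsg.Agent.ZN
open Cfsg.Agent.Omega.MinPar
open Cfsg.Agent.Omega.FFThm (NatKM ActsSL)
open Cfsg.Agent.Omega.FrameFF (cv)
open Cfsg.Agent.MinSimple.VModule (zc_le_zl zc_le)
open Cfsg.Agent.Omega.NatPair (ap ap_mul ap_one ap_inv_ap ap_zero' ap_one' ap_inj ext2 exists_ap)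
open Cfsg.Agent.Lib.SL2Mat

universe u

variable {G : Type u} [Group G]

/-- Every `v ∈ V_P#` is `P`-conjugate into `Z`, or some 2-group of `P` centralises `v` and generates `P` together
with `S`. -/
def PM (S P : Subgroup G) : Prop :=
  ∀ v ∈ zl S P, v ≠ 1 → (∃ p ∈ P, p * v * p⁻¹ ∈ zc S) ∨
    ∃ X ≤ P, IsPGroup 2 X ∧ (∀ x ∈ X, x * v = v * x) ∧ P ≤ X ⊔ S

/-- `S ≤ K ≤ P`, `P ≤ K C_P(V_P)` gives `P ≤ K`. -/
theorem eq_of_sup {S P K : Subgroup G} (h : IsParS S P) (hSK : S ≤ K) (hKP : K ≤ P)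
    (hK : P ≤ K ⊔ (P ⊓ centralizer (zl S P : Set G))) : P ≤ K := by
  obtain ⟨M, hM, h1⟩ := h.exists_max
  by_contra hne
  have h2 : K < P := lt_of_le_of_ne hKP fun h2 => hne h2.ge
  have h3 : K ≤ M := h1 K hSK h2
  have h4 : S ⊔ (P ⊓ centralizer (zl S P : Set G)) < P := by
    refine lt_of_le_of_ne (sup_le h.le inf_le_left) fun h4 => h.not_zc ?_
    have h5 : P ≤ centralizer (zc S : Set G) := by
      rw [← h4]
      refine sup_le (fun s hs => mem_centralizer_iff.2 fun z hz => ((MinSimple.VModule.mem_zc.1 hz).2.1 s hs).symm) ?_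
      exact inf_le_right.trans (centralizer_le (zc_le_zl S P))
    exact h5.trans (centralizer_le_normalizer _)
  have h5 := h1 _ le_sup_left h4
  exact hM.not_ge (hK.trans (sup_le h3 (le_sup_right.trans h5)))

/-- an odd power of `g` is a 2-element -/
theorem exists_odd_pow [Finite G] (g : G) : ∃ n : ℕ, Odd n ∧ ∃ a : ℕ, (g ^ n) ^ 2 ^ a = 1 := by
  obtain ⟨a, n, hn, h⟩ := Nat.exists_eq_two_pow_mul_odd (orderOf_pos g).ne'
  refine ⟨n, hn, a, ?_⟩
  rw [← pow_mul, mul_comm, ← h, pow_orderOf_eq_one]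

theorem isPGroup_zpowers {g : G} {a : ℕ} (h : g ^ 2 ^ a = 1) : IsPGroup 2 (zpowers g) := by
  rintro ⟨x, hx⟩
  obtain ⟨n, rfl⟩ := mem_zpowers_iff.1 hx
  refine ⟨a, Subtype.ext ?_⟩
  change (g ^ n) ^ 2 ^ a = 1
  rw [← zpow_natCast, ← zpow_mul, mul_comm, zpow_mul, zpow_natCast, h, one_zpow]

theorem comm_zpowers {g v x : G} (h : g * v = v * g) (hx : x ∈ zpowers g) : x * v = v * x := by
  have h1 : zpowers g ≤ centralizer ({v} : Set G) := by
    rw [zpowers_le, mem_centralizer_singleton_iff]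
    exact h
  exact mem_centralizer_singleton_iff.1 (h1 hx)

section nat

open NF.NatR

variable {F : Type} [Field F] {S P W : Subgroup G} {k : ℕ} {M : NatKM F S P W ⊥ k}

theorem Ac.pow (hPW : P ≤ normalizer (W : Set G)) {g : G} {A : Fin k → Matrix.SpecialLinearGroup (Fin 2) F}
    (hg : g ∈ P) (h : Ac M g A) (n : ℕ) : Ac M (g ^ n) (A ^ n) := by
  induction n with
  | zero => rw [pow_zero, pow_zero]; exact ac_one (one_mem _)
  | succ n ih => rw [pow_succ, pow_succ]; exact NF.NatR.Ac.mul hPW hg ih h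

theorem Ac.odd (hPW : P ≤ normalizer (W : Set G)) {g : G} {A : Fin k → Matrix.SpecialLinearGroup (Fin 2) F}
    (hg : g ∈ P) (h : Ac M g A) (hA : A * A = 1) {n : ℕ} (hn : Odd n) : Ac M (g ^ n) A := by
  obtain ⟨t, rfl⟩ := hn
  have h1 := Ac.pow hPW hg h (2 * t + 1)
  have h2 : A ^ (2 * t + 1) = A := by rw [pow_succ, pow_mul, pow_two, hA, one_pow, one_mul]
  rwa [h2] at h1

/-- an element fixing all vectors of all summands other than `j` acts only on the summand `j` -/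
theorem eq_mulSingle {h : G}
    {B : Fin k → Matrix.SpecialLinearGroup (Fin 2) F} (hB : Ac M h B) {j : Fin k}
    (hfix : ∀ v ∈ W, M.e v j = 0 → h * v * h⁻¹ = v) : B = Pi.mulSingle j (B j) := by
  classical
  funext i
  by_cases hi : i = j
  · subst hi; rw [Pi.mulSingle_eq_same]
  · rw [Pi.mulSingle_eq_of_ne hi]
    refine ap_inj fun x => ?_
    obtain ⟨v, hv, hvi, hvj⟩ := exists_pt (M := M) i x
    have h1 := hB v hv i
    rw [hfix v hv (hvj j (Ne.symm hi)), hvi] at h1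
    rw [← h1, ap_one]

theorem mulSingle_up (j : Fin k) (c : F) : (fun i => up ((Pi.single j c : Fin k → F) i) :
    Fin k → Matrix.SpecialLinearGroup (Fin 2) F) = Pi.mulSingle j (up c) := by
  classical
  funext i
  by_cases hj : i = j
  · subst hj; rw [Pi.single_eq_same, Pi.mulSingle_eq_same]
  · rw [Pi.single_eq_of_ne hj, Pi.mulSingle_eq_of_ne hj, up_zero]

/-- the elements of `K ≥ S` cover `SL₂(F)^k` as soon as one of them acts as `lo 1` on one summand -/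
theorem le_of_lo [CharP F 2] {S P K : Subgroup G} {k : ℕ} (M : NatKM F S P (zl S P) ⊥ k) (hP : IsParS S P)
    (hSK : S ≤ K) (hKP : K ≤ P) {g : G} (hg : g ∈ K) {j : Fin k} (hac : Ac M g (Pi.mulSingle j (lo 1))) :
    P ≤ K := by
  classical
  have hPW : P ≤ normalizer (zl S P : Set G) := le_normalizer_zl S P
  have hSP := hP.le
  refine eq_of_sup hP hSK hKP ?_
  set K' : Subgroup G := K ⊔ (P ⊓ centralizer (zl S P : Set G)) with hK'
  have hKK' : K ≤ K' := le_sup_left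
  have hCK' : P ⊓ centralizer (zl S P : Set G) ≤ K' := le_sup_right
  have hK'P : K' ≤ P := sup_le hKP inf_le_left
  let Γ : Subgroup (Fin k → Matrix.SpecialLinearGroup (Fin 2) F) :=
    { carrier := {B | ∃ m ∈ K', Ac M m B}
      mul_mem' := by
        rintro B B' ⟨m, hm, hmB⟩ ⟨m', hm', hmB'⟩
        exact ⟨m * m', mul_mem hm hm', NF.NatR.Ac.mul hPW (hK'P hm') hmB hmB'⟩
      one_mem' := ⟨1, one_mem _, ac_one (one_mem _)⟩
      inv_mem' := by
        rintro B ⟨m, hm, hmB⟩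
        exact ⟨m⁻¹, inv_mem hm, hmB.inv hPW (hK'P hm)⟩ }
  have hup : ∀ i c, Pi.mulSingle i (up c) ∈ Γ := by
    intro i c
    obtain ⟨t, ht, hac⟩ := M.unip (Pi.single i c)
    rw [mulSingle_up] at hac
    exact ⟨t, hKK' (hSK ht), hac.1⟩
  have hlo1 : Pi.mulSingle j (lo 1) ∈ Γ := ⟨g, hKK' hg, hac⟩
  -- an element of `P` acting as an element of `Γ` is in `K'`
  have hmem : ∀ h ∈ P, ∀ B, Ac M h B → B ∈ Γ → h ∈ K' := by
    rintro h hh B hB ⟨m, hm, hmB⟩
    have h1 := NF.NatR.Ac.mul hPW hh (hmB.inv hPW (hK'P hm)) hB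
    rw [inv_mul_cancel] at h1
    have h4 : m⁻¹ * h ∈ P := mul_mem (inv_mem (hK'P hm)) hh
    have h2 : m⁻¹ * h ∈ K' := hCK' ⟨h4, cent_of_ac (M := M) hPW h4 h1⟩
    have h3 := mul_mem hm h2
    rwa [mul_inv_cancel_left] at h3
  -- the summand `j`
  have hw : (Pi.mulSingle j (wm (1 : F) one_ne_zero) : Fin k → Matrix.SpecialLinearGroup (Fin 2) F) ∈ Γ := by
    have h1 : wm (1 : F) one_ne_zero = lo 1 * up 1 * lo 1 := by
      rw [wm_eq, inv_one, CharTwo.neg_eq]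
    rw [h1, Pi.mulSingle_mul, Pi.mulSingle_mul]
    exact mul_mem (mul_mem hlo1 (hup j 1)) hlo1
  have hlo : ∀ c, Pi.mulSingle j (lo c) ∈ Γ := by
    intro c
    have h1 : lo c = wm (1 : F) one_ne_zero * up (-c) * (wm (1 : F) one_ne_zero)⁻¹ := by
      rw [wm_up, mul_inv_cancel_right]
      congr 1
      ring
    rw [h1, Pi.mulSingle_mul, Pi.mulSingle_mul, Pi.mulSingle_inv]
    exact mul_mem (mul_mem hw (hup j _)) (inv_mem hw)
  have hj : ∀ B, Pi.mulSingle j B ∈ Γ := by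
    intro B
    obtain ⟨a, b, c, d, h1⟩ := exists_up_lo B
    rw [h1, Pi.mulSingle_mul, Pi.mulSingle_mul, Pi.mulSingle_mul]
    exact mul_mem (mul_mem (mul_mem (hup j a) (hlo b)) (hup j c)) (hlo d)
  -- all summands
  have hall : ∀ i B, Pi.mulSingle i B ∈ Γ := by
    intro i B
    obtain ⟨t, ht, htr⟩ := M.trans j i
    obtain ⟨h, hh, hB⟩ := lift_ac (M := M) (Pi.mulSingle i B)
    have htP := hSP ht
    have h1 : t⁻¹ * h * t ∈ P := mul_mem (mul_mem (inv_mem htP) hh) htP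
    obtain ⟨B', hB'⟩ := M.norm t⁻¹ (inv_mem htP) h hh _ hB
    have hB'' : Ac M (t⁻¹ * h * t) B' := by
      intro v hv i'
      have h2 := hB' v hv i'
      rwa [inv_inv] at h2
    have hfix : ∀ v ∈ zl S P, M.e v j = 0 → t⁻¹ * h * t * v * (t⁻¹ * h * t)⁻¹ = v := by
      intro v hv h0
      have hv' : t * v * t⁻¹ ∈ zl S P := cmem hPW htP hv
      have h3 : M.e (t * v * t⁻¹) i = 0 := (htr v hv).2 h0
      have h4 : h * (t * v * t⁻¹) * h⁻¹ = t * v * t⁻¹ := by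
        refine e_inj (M := M) (cmem hPW hh hv') hv' ?_
        funext i'
        rw [hB _ hv' i']
        by_cases hi' : i' = i
        · subst hi'
          rw [Pi.mulSingle_eq_same, h3]
          refine ext2 ?_ ?_
          · rw [ap_zero']; simp
          · rw [ap_one']; simp
        · rw [Pi.mulSingle_eq_of_ne hi', ap_one]
      have e1 : t⁻¹ * h * t * v * (t⁻¹ * h * t)⁻¹ = t⁻¹ * (h * (t * v * t⁻¹) * h⁻¹) * t := by group
      rw [e1, h4]; group
    have h5 := eq_mulSingle hB'' hfix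
    have h6 : t⁻¹ * h * t ∈ K' := hmem _ h1 _ hB'' (by rw [h5]; exact hj _)
    have h7 : h ∈ K' := by
      have h8 := mul_mem (mul_mem (hKK' (hSK ht)) h6) (inv_mem (hKK' (hSK ht)))
      have e2 : t * (t⁻¹ * h * t) * t⁻¹ = h := by group
      rwa [e2] at h8
    exact ⟨h, h7, hB⟩
  have hΓ : ∀ B, B ∈ Γ := fun B => pi_mem_of_mulSingle_mem B fun i => hall i (B i)
  refine M.gen K' (hSK.trans hKK') fun h hh A hA => ?_
  exact hmem h hh A hA.1 (hΓ A)

end nat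

open NF.NatR in
/-- **the natural case** -/
theorem pm_nat [Finite G] {S P : Subgroup G} (hP : IsParS S P) (hz : zc S ≠ ⊥) (hD : cv S P = ⊥)
    {F : Type} [Field F] [CharP F 2] {k : ℕ} (M : NatKM F S P (zl S P) (cv S P) k) : PM S P := by
  classical
  rw [hD] at M
  have hPW : P ≤ normalizer (zl S P : Set G) := le_normalizer_zl S P
  have hSP := hP.le
  intro v hv hv1
  by_cases hall : ∀ j, M.e v j ≠ 0
  · left
    obtain ⟨⟨z, hzS⟩, hz1⟩ := Subgroup.ne_bot_iff_exists_ne_one.1 hz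
    have hz1 : z ≠ 1 := fun h => hz1 (Subtype.ext h)
    have hzW := zc_le_zl S P hzS
    have hcen : ∀ s ∈ S, s * z * s⁻¹ = z := by
      intro s hs
      rw [(MinSimple.VModule.mem_zc.1 hzS).2.1 s hs]
      group
    have hzf : ∀ j, M.e z j ≠ 0 := by
      intro j h0
      apply hz1
      refine e_inj (M := M) hzW (one_mem _) ?_
      rw [e_one]
      funext j'
      obtain ⟨s, hs, h1⟩ := M.trans j j'
      have h2 := (h1 z hzW).2 h0
      rwa [hcen s hs] at h2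
    obtain ⟨p, hp, he⟩ := conj_of (M := M) hPW hv hzW hall hzf
    exact ⟨p, hp, he ▸ hzS⟩
  · right
    push Not at hall
    obtain ⟨j, hj⟩ := hall
    obtain ⟨g0, hg0, hac0⟩ := lift_ac (M := M) (Pi.mulSingle j (lo 1))
    obtain ⟨n, hn, a, ha⟩ := exists_odd_pow g0
    have hBB : (Pi.mulSingle j (lo (1 : F)) : Fin k → Matrix.SpecialLinearGroup (Fin 2) F) *
        Pi.mulSingle j (lo 1) = 1 := by
      rw [← Pi.mulSingle_mul, lo_mul, CharTwo.add_self_eq_zero, lo_zero, Pi.mulSingle_one]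
    have hac := Ac.odd hPW hg0 hac0 hBB hn
    set g := g0 ^ n with hgdef
    have hgP : g ∈ P := pow_mem hg0 n
    have hgv : g * v = v * g := by
      have h1 : g * v * g⁻¹ = v := by
        refine e_inj (M := M) (cmem hPW hgP hv) hv ?_
        funext i
        rw [hac v hv i]
        by_cases hi : i = j
        · subst hi
          rw [Pi.mulSingle_eq_same, hj]
          refine ext2 ?_ ?_
          · rw [ap_zero']; simp
          · rw [ap_one']; simp
        · rw [Pi.mulSingle_eq_of_ne hi, ap_one]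
      exact mul_inv_eq_iff_eq_mul.1 h1
    refine ⟨zpowers g, zpowers_le.2 hgP, isPGroup_zpowers ha, fun x hx => comm_zpowers hgv hx, ?_⟩
    exact le_of_lo M hP le_sup_right (sup_le (zpowers_le.2 hgP) hSP)
      ((le_sup_left : zpowers g ≤ _) (mem_zpowers g)) hac

end Cfsg.Agent.Omega.NOThreeL.Low

end

section


/-!
# [R-low] (#21762, helper597), LEMMA K2: the index-two subgroup `T₀` and the two halves of `U`

* `Two S T₀` : `T₀ < S` of index 2; `exists_two`;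
* `pr N O v` : the component of `v ∈ U` at the blocks in `O`;
* `Half N T₀ i O` : `O` is the `T₀`-orbit of the block `i`, the elements of `S - T₀` swap `O` and its complement;
* `exists_half`.
-/

set_option autoImplicit false

namespace Cfsg.Agent.Omega.NOThreeL.RLow.KTwo

open Subgroup Cfsg Cfsg.Agent.ZN Cfsg.Agent.Omega.MinPar
open Cfsg.Agent.Omega.FFThm (NatKM ActsSL)
open Cfsg.Agent.MinSimple.VModule (mem_zc zc_le_zl zc_le zc_sq le_normalizer_zl)
open Cfsg.Agent.Omega.NatPair (ap ap_mul ap_one ap_inv_ap ap_zero' ap_one' ap_inj ext2 exists_ap)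
open Cfsg.Agent.Lib.SL2Mat
open Cfsg.Agent.Omega.NOThreeL.Low (Blk Rtv blk mem_blk exists_blk)
open Cfsg.Agent.Omega.NOThreeL.NF.NatR

universe u

/-! ### Index two -/

section two

variable {G : Type u} [Group G]

/-- `T₀ < S` of index 2. -/
structure Two (S T₀ : Subgroup G) : Prop where
  le : T₀ ≤ S
  ex : ∃ t ∈ S, t ∉ T₀
  mul : ∀ a ∈ S, ∀ b ∈ S, a ∉ T₀ → b ∉ T₀ → a * b ∈ T₀

theorem exists_two [Finite G] {S H : Subgroup G} (hS : IsPGroup 2 S) (hHS : H ≤ S) (hlt : ¬ S ≤ H) :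
    ∃ T₀, H ≤ T₀ ∧ Two S T₀ := by
  have := Fact.mk Nat.prime_two
  obtain ⟨p, hp, hp'⟩ := SetLike.not_le_iff_exists.1 hlt
  obtain ⟨n, hn⟩ := IsPGroup.iff_card.1 hS
  have hH2 : IsPGroup 2 (H.subgroupOf S) := hS.to_subgroup _
  obtain ⟨m, hm⟩ := IsPGroup.iff_card.1 hH2
  have hlt : Nat.card (H.subgroupOf S) < Nat.card S := by
    have h1 := Cfsg.Agent.SectRankFour.C2.BThreeA.two_mul_card_le (A := H.subgroupOf S) (B := ⊤) le_top
      (p := ⟨p, hp⟩) trivial (by rw [Subgroup.mem_subgroupOf]; exact hp')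
    rw [Subgroup.card_top] at h1
    have h2 : 0 < Nat.card (H.subgroupOf S) := Nat.card_pos
    omega
  have hmn : m < n := by
    rw [hm, hn] at hlt
    exact (Nat.pow_lt_pow_iff_right (by norm_num)).1 hlt
  obtain ⟨K, hK, hHK⟩ := Sylow.exists_subgroup_card_pow_prime_le (G := S) 2 (n := m) (m := n - 1)
    (by rw [hn]; exact pow_dvd_pow 2 (by omega)) (H.subgroupOf S) hm (by omega)
  have hidx : K.index = 2 := by
    have h1 := K.card_mul_index
    rw [hK, hn] at h1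
    have h2 : 2 ^ n = 2 ^ (n - 1) * 2 := by
      rw [← pow_succ]
      congr 1
      omega
    rw [h2] at h1
    exact Nat.eq_of_mul_eq_mul_left (by positivity) h1
  have hmem : ∀ (x : G) (hx : x ∈ S), x ∈ K.map (S.subtype) ↔ (⟨x, hx⟩ : S) ∈ K := by
    intro x hx
    constructor
    · rintro ⟨y, hy, hyx⟩
      have : y = ⟨x, hx⟩ := Subtype.ext hyx
      rw [← this]; exact hy
    · intro h
      exact ⟨⟨x, hx⟩, h, rfl⟩
  refine ⟨K.map S.subtype, fun h hh => (hmem h (hHS hh)).2 (hHK hh), ?_, ?_, ?_⟩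
  · rintro _ ⟨k, _, rfl⟩
    exact k.2
  · by_contra hcon
    push Not at hcon
    have h2 : K = ⊤ := by
      rw [eq_top_iff]
      intro q _
      exact (hmem q q.2).1 (hcon q q.2)
    rw [h2, Subgroup.index_top] at hidx
    exact absurd hidx (by norm_num)
  · intro a ha b hb ha' hb'
    rw [hmem a ha] at ha'
    rw [hmem b hb] at hb'
    rw [hmem _ (mul_mem ha hb)]
    exact (Subgroup.mul_mem_iff_of_index_two hidx (a := ⟨a, ha⟩) (b := ⟨b, hb⟩)).2
      (iff_of_false ha' hb')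

variable {S T₀ : Subgroup G} (h : Two S T₀)
include h

theorem Two.conj {t x : G} (ht : t ∈ S) (hx : x ∈ T₀) : t * x * t⁻¹ ∈ T₀ := by
  by_cases h1 : t ∈ T₀
  · exact mul_mem (mul_mem h1 hx) (inv_mem h1)
  · refine h.mul _ (mul_mem ht (h.le hx)) _ (inv_mem ht) (fun h2 => h1 ?_) fun h2 => h1 (inv_mem_iff.1 h2)
    exact (T₀.mul_mem_cancel_right hx).1 h2

theorem Two.le_normalizer : S ≤ normalizer (T₀ : Set G) := by
  intro t ht
  rw [mem_normalizer_iff]
  intro x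
  refine ⟨fun hx => h.conj ht hx, fun hx => ?_⟩
  have h1 := h.conj (inv_mem ht) hx
  have e1 : t⁻¹ * (t * x * t⁻¹) * t⁻¹⁻¹ = x := by group
  rwa [e1] at h1

theorem Two.card [Finite G] : Nat.card S = 2 * Nat.card T₀ := by
  obtain ⟨t, ht, h1⟩ := h.ex
  refine Cfsg.Agent.SectRankFour.C2.BThreeA.card_eq_two_mul h.le ht h1 fun b hb => ?_
  by_cases hb' : b ∈ T₀
  · exact Or.inl hb'
  · exact Or.inr (h.mul b hb t ht hb' h1)

end two

/-! ### The components of `U` -/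

section pr

variable {G : Type u} [Group G] {K : Type} [Field K] {S P U : Subgroup G} {k : ℕ}
  (N : NatKM K S P U ⊥ k) (O : Set (Fin k))

open Classical in
/-- the component of `v` at `O` -/
noncomputable def pr (v : G) : G := (N.surj fun j => if j ∈ O then N.e v j else 0).choose

theorem pr_mem (v : G) : pr N O v ∈ U := (N.surj _).choose_spec.1

open Classical in
theorem e_pr (v : G) (j : Fin k) : N.e (pr N O v) j = if j ∈ O then N.e v j else 0 :=
  congrFun (N.surj _).choose_spec.2 j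

variable {N O}

theorem e_pr_in {v : G} {j : Fin k} (hj : j ∈ O) : N.e (pr N O v) j = N.e v j := by rw [e_pr, if_pos hj]

theorem e_pr_out {v : G} {j : Fin k} (hj : j ∉ O) : N.e (pr N O v) j = 0 := by rw [e_pr, if_neg hj]

theorem eq_pr {v w : G} (hw : w ∈ U) (h1 : ∀ j ∈ O, N.e w j = N.e v j) (h2 : ∀ j, j ∉ O → N.e w j = 0) :
    w = pr N O v := by
  refine e_inj (M := N) hw (pr_mem N O v) ?_
  funext j
  by_cases hj : j ∈ O
  · rw [h1 j hj, e_pr_in hj]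
  · rw [h2 j hj, e_pr_out hj]

theorem pr_mul_pr {v : G} (hv : v ∈ U) : pr N O v * pr N Oᶜ v = v := by
  refine e_inj (M := N) (mul_mem (pr_mem N O v) (pr_mem N Oᶜ v)) hv ?_
  rw [N.mul _ (pr_mem N O v) _ (pr_mem N Oᶜ v)]
  funext j
  rw [Pi.add_apply]
  by_cases hj : j ∈ O
  · rw [e_pr_in hj, e_pr_out (O := Oᶜ) (fun h => h hj), add_zero]
  · rw [e_pr_out hj, e_pr_in (O := Oᶜ) hj, zero_add]

theorem pr_mul {v w : G} (hv : v ∈ U) (hw : w ∈ U) : pr N O (v * w) = pr N O v * pr N O w := by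
  symm
  refine eq_pr (mul_mem (pr_mem N O v) (pr_mem N O w)) (fun j hj => ?_) fun j hj => ?_
  · rw [N.mul _ (pr_mem N O v) _ (pr_mem N O w), N.mul v hv w hw, Pi.add_apply, Pi.add_apply, e_pr_in hj, e_pr_in hj]
  · rw [N.mul _ (pr_mem N O v) _ (pr_mem N O w), Pi.add_apply, e_pr_out hj, e_pr_out hj, add_zero]

theorem pr_one : pr N O 1 = 1 := by
  symm
  refine eq_pr (one_mem _) (fun j _ => rfl) fun j _ => ?_
  rw [e_one (M := N)]; rfl

theorem pr_eq_one {v : G} (h : ∀ j ∈ O, N.e v j = 0) : pr N O v = 1 := by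
  symm
  refine eq_pr (one_mem _) (fun j hj => ?_) fun j _ => ?_
  · rw [h j hj, e_one (M := N)]; rfl
  · rw [e_one (M := N)]; rfl

/-- `g` maps the blocks in `O` to the blocks in `O'`. -/
def Mv (N : NatKM K S P U ⊥ k) (g : G) (O O' : Set (Fin k)) : Prop :=
  ∀ v ∈ U, (∀ j, j ∉ O → N.e v j = 0) → ∀ j, j ∉ O' → N.e (g * v * g⁻¹) j = 0

theorem pr_conj (hPU : P ≤ normalizer (U : Set G)) {g : G} (hg : g ∈ P) {O' : Set (Fin k)} (h1 : Mv N g O O')
    (h2 : Mv N g Oᶜ O'ᶜ) {v : G} (hv : v ∈ U) : g * pr N O v * g⁻¹ = pr N O' (g * v * g⁻¹) := by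
  have ha := cmem hPU hg (pr_mem N O v)
  have hb := cmem hPU hg (pr_mem N Oᶜ v)
  have e1 : g * v * g⁻¹ = g * pr N O v * g⁻¹ * (g * pr N Oᶜ v * g⁻¹) := by
    conv_lhs => rw [← pr_mul_pr (N := N) (O := O) hv]
    group
  refine eq_pr ha (fun j hj => ?_) fun j hj => ?_
  · rw [e1, N.mul _ ha _ hb, Pi.add_apply]
    rw [h2 _ (pr_mem N Oᶜ v) (fun i hi => e_pr_out hi) j (fun h => h hj), add_zero]
  · exact h1 _ (pr_mem N O v) (fun i hi => e_pr_out hi) j hj

end pr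

/-! ### The orbit of a block under `T₀` -/

section half

variable {G : Type u} [Group G] {K : Type} [Field K] {S P U : Subgroup G} {k : ℕ}
  {N : NatKM K S P U ⊥ k}

theorem blk_inj {i j : Fin k} (h : blk N i = blk N j) : i = j := by
  by_contra hij
  obtain ⟨a, ha, he⟩ := exists_blk N i ![0, 1]
  rw [h] at ha
  have h1 := ha.2 i hij
  rw [he] at h1
  exact one_ne_zero (congrFun h1 1)

/-- `t ∈ P` permutes the blocks. -/
theorem exists_sig (hPU : P ≤ normalizer (U : Set G)) {t : G} (ht : t ∈ P) : ∃ σ : Equiv.Perm (Fin k),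
    (∀ v ∈ U, ∀ i, N.e (t * v * t⁻¹) (σ i) = 0 ↔ N.e v i = 0) ∧
      ∀ i v, v ∈ blk N i ↔ t * v * t⁻¹ ∈ blk N (σ i) := by
  obtain ⟨σ, h1⟩ := N.perm t ht
  refine ⟨σ, h1, fun i v => ⟨fun hv => ⟨cmem hPU ht hv.1, fun j hj => ?_⟩, fun hv => ?_⟩⟩
  · obtain ⟨j, rfl⟩ := σ.surjective j
    exact (h1 v hv.1 j).2 (hv.2 j fun h => hj (congrArg σ h))
  · have hv' : v ∈ U := by
      have h2 := cmem hPU (inv_mem ht) hv.1
      have e1 : t⁻¹ * (t * v * t⁻¹) * t⁻¹⁻¹ = v := by group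
      rwa [e1] at h2
    refine ⟨hv', fun j hj => (h1 v hv' j).1 (hv.2 _ fun h => hj (σ.injective h))⟩

/-- `O` is the `T₀`-orbit of the block `i`, the elements of `S - T₀` swap `O` and its complement. -/
structure Half (N : NatKM K S P U ⊥ k) (T₀ : Subgroup G) (i : Fin k) (O : Set (Fin k)) : Prop where
  mem : i ∈ O
  orb : ∀ j ∈ O, ∃ t ∈ T₀, ∀ v, v ∈ blk N i ↔ t * v * t⁻¹ ∈ blk N j
  pres : ∀ t ∈ T₀, Mv N t O O
  pres' : ∀ t ∈ T₀, Mv N t Oᶜ Oᶜ
  swap : ∀ t ∈ S, t ∉ T₀ → Mv N t O Oᶜ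
  swap' : ∀ t ∈ S, t ∉ T₀ → Mv N t Oᶜ O

theorem exists_half (hPU : P ≤ normalizer (U : Set G)) (hSP : S ≤ P) {T₀ : Subgroup G} (h : Two S T₀) {i : Fin k}
    (hi : S ⊓ normalizer (blk N i : Set G) ≤ T₀) : ∃ O, Half N T₀ i O := by
  -- `B t i j` : `t` maps the block `i` to the block `j`
  let B : G → Fin k → Fin k → Prop := fun t i j => ∀ v, v ∈ blk N i ↔ t * v * t⁻¹ ∈ blk N j
  have hBmul : ∀ {s t : G} {a b c : Fin k}, B t a b → B s b c → B (s * t) a c := by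
    intro s t a b c h1 h2 v
    rw [h1 v, h2 _]
    have e1 : s * t * v * (s * t)⁻¹ = s * (t * v * t⁻¹) * s⁻¹ := by group
    rw [e1]
  have hBinv : ∀ {t : G} {a b : Fin k}, B t a b → B t⁻¹ b a := by
    intro t a b h1 v
    rw [h1 (t⁻¹ * v * t⁻¹⁻¹)]
    have e1 : t * (t⁻¹ * v * t⁻¹⁻¹) * t⁻¹ = v := by group
    rw [e1]
  have hBex : ∀ {t : G}, t ∈ S → ∀ a, ∃ b, B t a b := by
    intro t ht a
    obtain ⟨σ, _, h2⟩ := exists_sig (N := N) hPU (hSP ht)
    exact ⟨σ a, h2 a⟩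
  have hBuniq : ∀ {t : G} {a b c : Fin k}, B t a b → B t a c → b = c := by
    intro t a b c h1 h2
    refine blk_inj (N := N) ?_
    ext v
    have e1 : t * (t⁻¹ * v * t) * t⁻¹ = v := by group
    have h3 := h1 (t⁻¹ * v * t)
    have h4 := h2 (t⁻¹ * v * t)
    rw [e1] at h3 h4
    rw [← h3, h4]
  have hBst : ∀ {t : G}, t ∈ S → B t i i → t ∈ T₀ := fun {t} ht h1 =>
    hi ⟨ht, mem_normalizer_iff.2 h1⟩
  have htrans : ∀ a b, ∃ t ∈ S, B t a b := by
    intro a b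
    obtain ⟨t, ht, h1⟩ := N.trans a b
    refine ⟨t, ht, ?_⟩
    obtain ⟨σ, h2, h3⟩ := exists_sig (N := N) hPU (hSP ht)
    have h4 : σ a = b := by
      by_contra hne
      obtain ⟨v, hv, hvi, hvj⟩ := exists_pt (M := N) a ![0, 1]
      have h5 : N.e v a ≠ 0 := by
        rw [hvi]
        intro h0
        exact one_ne_zero (congrFun h0 1)
      refine h5 ((h1 v hv).1 ?_)
      obtain ⟨j', rfl⟩ := σ.surjective b
      exact (h2 v hv j').2 (hvj j' fun h6 => hne (by rw [h6]))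
    intro v
    rw [← h4]
    exact h3 a v
  let O : Set (Fin k) := {j | ∃ t ∈ T₀, B t i j}
  have hB1 : B 1 i i := by
    intro v
    rw [one_mul, inv_one, mul_one]
  have hO : ∀ {t : G}, t ∈ S → ∀ {a b : Fin k}, B t a b → ((t ∈ T₀) ↔ (a ∈ O ↔ b ∈ O)) := by
    intro t ht a b hab
    obtain ⟨s, hs, hsa⟩ := htrans i a
    have h1 : ∀ {c : Fin k} {x : G}, x ∈ S → B x i c → (c ∈ O ↔ x ∈ T₀) := by
      intro c x hx hxc
      constructor
      · rintro ⟨y, hy, hyc⟩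
        have h2 : B (y⁻¹ * x) i i := hBmul hxc (hBinv hyc)
        have h3 : y⁻¹ * x ∈ T₀ := hBst (mul_mem (inv_mem (h.le hy)) hx) h2
        exact (T₀.mul_mem_cancel_left (inv_mem hy)).1 h3
      · intro hx0
        exact ⟨x, hx0, hxc⟩
    rw [h1 hs hsa, h1 (mul_mem ht hs) (hBmul hsa hab)]
    by_cases h2 : t ∈ T₀
    · simp only [h2, true_iff]
      exact (T₀.mul_mem_cancel_left h2).symm
    · simp only [h2, false_iff]
      by_cases h3 : s ∈ T₀
      · simp only [h3, true_iff]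
        intro h4
        exact h2 ((T₀.mul_mem_cancel_right h3).1 h4)
      · have h4 := h.mul t ht s hs h2 h3
        simp [h3, h4]
  have hMv : ∀ {t : G}, t ∈ S → ∀ (A A' : Set (Fin k)), (∀ a b, B t a b → (a ∈ A ↔ b ∈ A')) → Mv N t A A' := by
    intro t ht A A' h1 v hv hv0 j hj
    obtain ⟨σ, h2, h3⟩ := exists_sig (N := N) hPU (hSP ht)
    obtain ⟨a, rfl⟩ := σ.surjective j
    exact (h2 v hv a).2 (hv0 a fun ha => hj ((h1 a (σ a) (h3 a)).1 ha))
  refine ⟨O, ⟨1, one_mem _, hB1⟩, fun j hj => hj, fun t ht => ?_, fun t ht => ?_, fun t ht ht' => ?_,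
    fun t ht ht' => ?_⟩
  · exact hMv (h.le ht) _ _ fun a b hab => (hO (h.le ht) hab).1 ht
  · exact hMv (h.le ht) _ _ fun a b hab => not_congr ((hO (h.le ht) hab).1 ht)
  · refine hMv ht _ _ fun a b hab => ?_
    have h1 := mt (hO ht hab).2 ht'
    rw [Set.mem_compl_iff]
    tauto
  · refine hMv ht _ _ fun a b hab => ?_
    have h1 := mt (hO ht hab).2 ht'
    rw [Set.mem_compl_iff]
    tauto

end half

end Cfsg.Agent.Omega.NOThreeL.RLow.KTwo

end

section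


/-!
# [R-low] (#21762, helper597): LEMMA HALF (#22231 (A), helper535)

`G` of characteristic 2 type, `U = V_P` a sum of natural modules, `T₀` of index 2 in `S`, `N_S(N_i) ≤ T₀`, `O` the
`T₀`-orbit of `i`, `Z₂ = {z_{O'} : z ∈ Z}` (`O'` the complement of `O`). Then `N_j ≤ O₂(C_G(Z₂))` for `j ∈ O`.
-/

set_option autoImplicit false

namespace Cfsg.Agent.Omega.NOThreeL.RLow.KTwo

open Subgroup Cfsg Cfsg.Agent.ZN Cfsg.Agent.Omega.MinPar
open Cfsg.Agent.Omega.FFThm (NatKM ActsSL)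
open Cfsg.Agent.MinSimple.VModule (zc_le_zl zc_sq o2_isPGroup le_o2)
open Cfsg.Agent.Omega.NatPair (ap ap_mul ap_one ap_inv_ap ap_zero' ap_one' ap_inj ext2 exists_ap)
open Cfsg.Agent.Lib.SL2Mat
open Cfsg.Agent.Omega.NOThreeL.Low (Blk Rtv blk mem_blk exists_blk)
open Cfsg.Agent.Omega.NOThreeL.NF.NatR
open scoped Pointwise

universe u

/-! ### Support -/

section supp

variable {G : Type u} [Group G] {K : Type} [Field K] {S P U : Subgroup G} {k : ℕ}
  (N : NatKM K S P U ⊥ k)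

/-- the vectors with support in `O` -/
def uo (O : Set (Fin k)) : Subgroup G where
  carrier := {v | v ∈ U ∧ ∀ j, j ∉ O → N.e v j = 0}
  mul_mem' := by
    rintro a b ⟨ha, ha'⟩ ⟨hb, hb'⟩
    exact ⟨mul_mem ha hb, fun j hj => by rw [N.mul a ha b hb, Pi.add_apply, ha' j hj, hb' j hj, add_zero]⟩
  one_mem' := ⟨one_mem _, fun j _ => by rw [e_one (M := N)]; rfl⟩
  inv_mem' := by
    rintro a ⟨ha, ha'⟩
    exact ⟨inv_mem ha, fun j hj => by rw [e_inv (M := N) ha, Pi.neg_apply, ha' j hj, neg_zero]⟩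

variable {N}

theorem mem_uo {O : Set (Fin k)} {v : G} : v ∈ uo N O ↔ v ∈ U ∧ ∀ j, j ∉ O → N.e v j = 0 := Iff.rfl

theorem pr_mem_uo {O : Set (Fin k)} (v : G) : pr N O v ∈ uo N O := ⟨pr_mem N O v, fun _ hj => e_pr_out hj⟩

theorem blk_le_uo {O : Set (Fin k)} {j : Fin k} (hj : j ∈ O) : blk N j ≤ uo N O := fun _ hv =>
  ⟨hv.1, fun i hi => hv.2 i fun h => hi (h ▸ hj)⟩

theorem uo_le_aux {O : Set (Fin k)} {H : Subgroup G} (hH : ∀ j ∈ O, blk N j ≤ H) (s : Finset (Fin k)) :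
    ∀ v ∈ uo N O, (∀ j, j ∉ s → N.e v j = 0) → v ∈ H := by
  classical
  induction s using Finset.induction_on with
  | empty =>
    intro v hv h0
    have : v = 1 := e_inj (M := N) hv.1 (one_mem _) (by
      rw [e_one]; funext j; exact h0 j (Finset.notMem_empty j))
    rw [this]; exact one_mem _
  | insert a s has ih =>
    intro v hv h0
    by_cases haJ : a ∈ O
    · obtain ⟨w, hw, hew⟩ := exists_blk N a (N.e v a)
      have h1 := ih (v * w⁻¹) (mul_mem hv (inv_mem (blk_le_uo haJ hw))) (fun j hj => by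
        rw [N.mul v hv.1 _ (inv_mem hw.1), e_inv hw.1, Pi.add_apply, Pi.neg_apply]
        by_cases hja : j = a
        · subst hja; rw [hew, add_neg_cancel]
        · rw [hw.2 j hja, neg_zero, add_zero]
          exact h0 j fun h => (Finset.mem_insert.1 h).elim hja hj)
      have h3 := mul_mem h1 (hH a haJ hw)
      rwa [inv_mul_cancel_right] at h3
    · refine ih v hv fun j hj => ?_
      by_cases hja : j = a
      · subst hja; exact hv.2 j haJ
      · exact h0 j fun h => (Finset.mem_insert.1 h).elim hja hj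

theorem uo_le {O : Set (Fin k)} {H : Subgroup G} (hH : ∀ j ∈ O, blk N j ≤ H) : uo N O ≤ H := fun v hv =>
  uo_le_aux hH Finset.univ v hv fun j hj => absurd (Finset.mem_univ j) hj

/-- A subgroup `Q` of `G` normalised by the elements acting on the block `j` only, with `v ∈ Q`, `v_j ≠ 0`, contains
the block `j`. -/
theorem blk_le_of_mem (hPU : P ≤ normalizer (U : Set G)) {Q : Subgroup G} {j : Fin k}
    (hQ : ∀ g ∈ P, ∀ B, Ac N g (Pi.mulSingle j B) → ∀ q ∈ Q, g * q * g⁻¹ ∈ Q) {v : G} (hv : v ∈ U) (hvQ : v ∈ Q)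
    (hvj : N.e v j ≠ 0) : blk N j ≤ Q := by
  classical
  set x := N.e v j with hx
  have key : ∀ a ∈ blk N j, N.e a j ≠ -x → a ∈ Q := by
    intro a ha hne
    have hne' : N.e a j + x ≠ 0 := fun h => hne (eq_neg_of_add_eq_zero_left h)
    obtain ⟨B, hB⟩ := exists_ap (F := K) hvj hne'
    obtain ⟨g, hg, hac⟩ := lift_ac (M := N) (Pi.mulSingle j B)
    have h1 : g * v * g⁻¹ * v⁻¹ ∈ Q := mul_mem (hQ g hg B hac v hvQ) (inv_mem hvQ)
    have h2 : a = g * v * g⁻¹ * v⁻¹ := by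
      refine e_inj (M := N) ha.1 (mul_mem (cmem hPU hg hv) (inv_mem hv)) ?_
      funext i
      rw [N.mul _ (cmem hPU hg hv) _ (inv_mem hv), e_inv hv, Pi.add_apply, Pi.neg_apply, hac v hv i]
      by_cases hij : i = j
      · subst hij
        rw [Pi.mulSingle_eq_same, ← hx, hB, add_neg_cancel_right]
      · rw [Pi.mulSingle_eq_of_ne hij, ap_one, add_neg_cancel, ha.2 i hij]
    rw [h2]; exact h1
  intro a ha
  by_cases hne : N.e a j = -x
  · -- `- x = w + (- x - w)`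
    have hw : ∃ w : Fin 2 → K, w ≠ 0 ∧ w ≠ -x := by
      by_cases h0 : x 0 = 0
      · refine ⟨![1, 0], fun h => one_ne_zero (congrFun h 0), fun h => ?_⟩
        have h1 := congrFun h 0
        rw [Pi.neg_apply, h0, neg_zero] at h1
        exact one_ne_zero h1
      · refine ⟨![0, 1], fun h => one_ne_zero (congrFun h 1), fun h => ?_⟩
        have h1 := congrFun h 0
        rw [Pi.neg_apply] at h1
        have h2 : x 0 = 0 := neg_eq_zero.1 h1.symm
        exact h0 h2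
    obtain ⟨w, hw0, hwx⟩ := hw
    obtain ⟨b, hb, heb⟩ := exists_blk N j w
    have h1 : b ∈ Q := key b hb (by rw [heb]; exact hwx)
    have h2 : b⁻¹ * a ∈ Q := by
      refine key _ (mul_mem (inv_mem hb) ha) ?_
      rw [N.mul _ (inv_mem hb.1) _ ha.1, e_inv hb.1, Pi.add_apply, Pi.neg_apply, heb, hne]
      intro h
      exact hw0 (neg_eq_zero.1 (add_eq_right.1 h))
    have h3 := mul_mem h1 h2
    rwa [mul_inv_cancel_left] at h3
  · exact key a ha hne

end supp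

/-! ### `Z` -/

section Z

variable {G : Type u} [Group G] [Finite G] {S : Sylow 2 G} {P : Subgroup G} {K : Type} [Field K] {k : ℕ}
  {N : NatKM K (S : Subgroup G) P (zl (S : Subgroup G) P) ⊥ k}

omit [Finite G] in
theorem zc_conj_eq {z t : G} (hz : z ∈ zc (S : Subgroup G)) (ht : t ∈ (S : Subgroup G)) : t * z * t⁻¹ = z := by
  rw [(MinSimple.VModule.mem_zc.1 hz).2.1 t ht, mul_inv_cancel_right]

theorem zc_snd {z : G} (hz : z ∈ zc (S : Subgroup G)) (j : Fin k) : N.e z j 1 = 0 := by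
  obtain ⟨t, ht, hac⟩ := N.unip fun _ => 1
  have h1 := hac.1 z (zc_le_zl _ _ hz) j
  rw [zc_conj_eq hz ht, ap_up] at h1
  have h2 := congrFun h1 0
  simp only [Matrix.cons_val_zero, one_mul] at h2
  exact left_eq_add.1 h2

theorem zc_ne {z : G} (hz : z ∈ zc (S : Subgroup G)) (h1 : z ≠ 1) (j : Fin k) : N.e z j ≠ 0 := by
  intro h0
  refine h1 (e_inj (M := N) (zc_le_zl _ _ hz) (one_mem _) ?_)
  rw [e_one (M := N)]
  funext i
  obtain ⟨t, ht, h2⟩ := N.trans j i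
  have h3 := (h2 z (zc_le_zl _ _ hz)).2 h0
  rwa [zc_conj_eq hz ht] at h3

variable (N) in
/-- `{z_O : z ∈ Z}` -/
def zo (O : Set (Fin k)) : Subgroup G where
  carrier := {v | ∃ z ∈ zc (S : Subgroup G), v = pr N O z}
  mul_mem' := by
    rintro _ _ ⟨z, hz, rfl⟩ ⟨w, hw, rfl⟩
    exact ⟨z * w, mul_mem hz hw, (pr_mul (zc_le_zl _ _ hz) (zc_le_zl _ _ hw)).symm⟩
  one_mem' := ⟨1, one_mem _, pr_one.symm⟩
  inv_mem' := by
    rintro _ ⟨z, hz, rfl⟩
    refine ⟨z⁻¹, inv_mem hz, ?_⟩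
    have h1 := pr_mul (N := N) (O := O) (zc_le_zl _ P (inv_mem hz)) (zc_le_zl _ _ hz)
    rw [inv_mul_cancel, pr_one] at h1
    exact (eq_inv_of_mul_eq_one_left h1.symm).symm

omit [Finite G] in
theorem mem_zo {O : Set (Fin k)} {v : G} : v ∈ zo N O ↔ ∃ z ∈ zc (S : Subgroup G), v = pr N O z := Iff.rfl

omit [Finite G] in
theorem zo_le_uo (O : Set (Fin k)) : zo N O ≤ uo N O := by
  rintro _ ⟨z, _, rfl⟩
  exact pr_mem_uo z

end Z

/-! ### `T₀` and `Z` -/

section half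

variable {G : Type u} [Group G] [Finite G] {S : Sylow 2 G} {P : Subgroup G} {K : Type} [Field K] {k : ℕ}
  {N : NatKM K (S : Subgroup G) P (zl (S : Subgroup G) P) ⊥ k} {T₀ : Subgroup G} {i : Fin k} {O : Set (Fin k)}

theorem Half.fix (hO : Half N T₀ i O) (h : Two (S : Subgroup G) T₀) (hSP : (S : Subgroup G) ≤ P) {t z : G}
    (ht : t ∈ T₀) (hz : z ∈ zc (S : Subgroup G)) : t * pr N O z * t⁻¹ = pr N O z := by
  rw [pr_conj (le_normalizer_zl _ _) (hSP (h.le ht)) (hO.pres t ht) (hO.pres' t ht) (zc_le_zl _ _ hz),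
    zc_conj_eq hz (h.le ht)]

theorem Half.fix' (hO : Half N T₀ i O) (h : Two (S : Subgroup G) T₀) (hSP : (S : Subgroup G) ≤ P) {t z : G}
    (ht : t ∈ T₀) (hz : z ∈ zc (S : Subgroup G)) : t * pr N Oᶜ z * t⁻¹ = pr N Oᶜ z := by
  rw [pr_conj (le_normalizer_zl _ _) (hSP (h.le ht)) (hO.pres' t ht)
    (by rw [compl_compl]; exact hO.pres t ht) (zc_le_zl _ _ hz), zc_conj_eq hz (h.le ht)]

theorem Half.sw (hO : Half N T₀ i O) (hSP : (S : Subgroup G) ≤ P) {t z : G}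
    (ht : t ∈ (S : Subgroup G)) (ht' : t ∉ T₀) (hz : z ∈ zc (S : Subgroup G)) :
    t * pr N O z * t⁻¹ = pr N Oᶜ z := by
  rw [pr_conj (le_normalizer_zl _ _) (hSP ht) (hO.swap t ht ht')
    (by rw [compl_compl]; exact hO.swap' t ht ht') (zc_le_zl _ _ hz), zc_conj_eq hz ht]

/-- `z ↦ z_{O'}` is injective on `Z`. -/
theorem Half.card_zo (hO : Half N T₀ i O) (h : Two (S : Subgroup G) T₀) (hSP : (S : Subgroup G) ≤ P) :
    Nat.card (zc (S : Subgroup G)) ≤ Nat.card (zo N Oᶜ) := by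
  obtain ⟨t, ht, ht'⟩ := h.ex
  refine Nat.card_le_card_of_injective
    (fun z : zc (S : Subgroup G) => (⟨pr N Oᶜ (z : G), z, z.2, rfl⟩ : zo N Oᶜ)) fun z w hzw => ?_
  have h1 : pr N Oᶜ (z : G) = pr N Oᶜ (w : G) := congrArg Subtype.val hzw
  rw [← hO.sw hSP ht ht' z.2, ← hO.sw hSP ht ht' w.2] at h1
  have h2 : pr N O (z : G) = pr N O (w : G) := mul_left_cancel (mul_right_cancel h1)
  have h3 : pr N O ((z : G) * (w : G)⁻¹) = 1 := by
    rw [pr_mul (zc_le_zl _ _ z.2) (zc_le_zl _ _ (inv_mem w.2)), h2,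
      ← pr_mul (zc_le_zl _ _ w.2) (zc_le_zl _ _ (inv_mem w.2)), mul_inv_cancel, pr_one]
  by_contra hne
  refine zc_ne (N := N) (mul_mem z.2 (inv_mem w.2)) (fun h4 => hne (Subtype.ext (mul_inv_eq_one.1 h4))) i ?_
  rw [← e_pr_in (N := N) (O := O) hO.mem, h3, e_one (M := N)]
  rfl

/-- **LEMMA HALF** (535 #22231 (A)). -/
theorem half_le (hc : IsCharacteristicTwoType G) (hP : IsParS (S : Subgroup G) P) (h : Two (S : Subgroup G) T₀)
    (hst : (S : Subgroup G) ⊓ normalizer (blk N i : Set G) ≤ T₀) (hO : Half N T₀ i O) :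
    uo N O ≤ o2 (centralizer (zo N Oᶜ : Set G)) := by
  classical
  have hf : Fact (Nat.Prime 2) := ⟨Nat.prime_two⟩
  have hSP : (S : Subgroup G) ≤ P := hP.le
  have hPU : P ≤ normalizer (zl (S : Subgroup G) P : Set G) := le_normalizer_zl _ _
  have hU2 : zl (S : Subgroup G) P ≤ zc (o2 P) := hP.isLoc.zl_le S hc
  have hUS : zl (S : Subgroup G) P ≤ (S : Subgroup G) := (hU2.trans (zc_le _)).trans (hP.isLoc.o2_le S)
  have hUC : ∀ u ∈ zl (S : Subgroup G) P, ∀ v ∈ zl (S : Subgroup G) P, u * v = v * u := fun u hu v hv =>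
    comm N hu hv
  have hUT : zl (S : Subgroup G) P ≤ T₀ := by
    intro u hu
    refine hst ⟨hUS hu, ?_⟩
    have h1 : zl (S : Subgroup G) P ≤ centralizer (blk N i : Set G) := fun u hu =>
      mem_centralizer_iff.2 fun v hv => hUC v hv.1 u hu
    exact centralizer_le_normalizer _ (h1 hu)
  have hUsq : ∀ u ∈ zl (S : Subgroup G) P, u ^ 2 = 1 := fun u hu => zc_sq _ _ (hU2 hu)
  obtain ⟨ζ, hζ, hζ1⟩ : ∃ z ∈ zc (S : Subgroup G), z ≠ 1 := by
    by_contra hcon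
    push Not at hcon
    refine hP.not_zc ?_
    have h1 : zc (S : Subgroup G) = ⊥ := (eq_bot_iff_forall _).2 hcon
    rw [h1]
    intro x _
    rw [mem_normalizer_iff]
    intro y
    change y ∈ (⊥ : Subgroup G) ↔ x * y * x⁻¹ ∈ (⊥ : Subgroup G)
    rw [mem_bot, mem_bot]
    exact conj_eq_one_iff.symm
  obtain ⟨t, htS, htT⟩ := h.ex
  -- `Z₂`
  have hZ2T : zo N Oᶜ ≤ T₀ := (zo_le_uo _).trans fun v hv => hUT hv.1
  have hZ2 : IsPGroup 2 (zo N Oᶜ) := S.isPGroup'.to_le (hZ2T.trans h.le)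
  have hZ2ne : zo N Oᶜ ≠ ⊥ := by
    intro h0
    have h1 : pr N Oᶜ ζ ∈ zo N Oᶜ := ⟨ζ, hζ, rfl⟩
    rw [h0, mem_bot, ← hO.sw hSP htS htT hζ, conj_eq_one_iff] at h1
    refine zc_ne (N := N) hζ hζ1 i ?_
    rw [← e_pr_in (N := N) (O := O) hO.mem, h1, e_one (M := N)]
    rfl
  set C := centralizer (zo N Oᶜ : Set G) with hC
  set Q := o2 C with hQ
  have hC2 : C ⊓ centralizer (Q : Set G) ≤ Q := NOne.LemmaT.char2_centralizer hc hZ2 hZ2ne
  have hQC : Q ≤ C := o2_le _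
  have hCQ : C ≤ normalizer (Q : Set G) := le_normalizer_o2 C
  have hT0C : T₀ ≤ C := by
    intro s hs
    rw [hC, mem_centralizer_iff]
    rintro _ ⟨z, hz, rfl⟩
    have h1 := hO.fix' h hSP hs hz
    exact (mul_inv_eq_iff_eq_mul.1 h1).symm
  have hUCC : zl (S : Subgroup G) P ≤ C := hUT.trans hT0C
  have hLC : ∀ g ∈ P, ∀ j ∈ O, ∀ B, Ac N g (Pi.mulSingle j B) → g ∈ C := by
    intro g hg j hj B hac
    rw [hC, mem_centralizer_iff]
    rintro _ ⟨z, hz, rfl⟩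
    have h1 : g * pr N Oᶜ z * g⁻¹ = pr N Oᶜ z := by
      refine e_inj (M := N) (cmem hPU hg (pr_mem N Oᶜ z)) (pr_mem N Oᶜ z) ?_
      funext a
      rw [hac _ (pr_mem N Oᶜ z) a]
      have hj' : j ∉ Oᶜ := fun h' => h' hj
      by_cases ha : a = j
      · rw [ha, e_pr_out hj', Pi.mulSingle_eq_same]
        refine ext2 ?_ ?_
        · rw [ap_zero']; simp
        · rw [ap_one']; simp
      · rw [Pi.mulSingle_eq_of_ne ha, ap_one]
    exact (mul_inv_eq_iff_eq_mul.1 h1).symm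
  by_contra hne
  -- 1.
  have hinf : ∀ v ∈ uo N O, v ∈ Q → v = 1 := by
    intro v hv hvQ
    by_contra hv1
    have h1 : ∃ j, N.e v j ≠ 0 := by
      by_contra hcon
      push Not at hcon
      refine hv1 (e_inj (M := N) hv.1 (one_mem _) ?_)
      rw [e_one (M := N)]
      funext j
      exact hcon j
    obtain ⟨j, hj⟩ := h1
    have hjO : j ∈ O := by
      by_contra h2
      exact hj (hv.2 j h2)
    have h2 : blk N j ≤ Q := by
      refine blk_le_of_mem hPU (fun g hg B hac q hq => ?_) hv.1 hvQ hj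
      exact (mem_normalizer_iff.1 (hCQ (hLC g hg j hjO B hac)) q).1 hq
    obtain ⟨s, hs, hsj⟩ := hO.orb j hjO
    refine hne (uo_le fun j' hj' w hw => ?_)
    obtain ⟨s', hs', hsj'⟩ := hO.orb j' hj'
    have e1 : s' * (s'⁻¹ * w * s') * s'⁻¹ = w := by group
    have h3 : s'⁻¹ * w * s' ∈ blk N i := (hsj' _).2 (by rw [e1]; exact hw)
    have h4 : s * (s'⁻¹ * w * s') * s⁻¹ ∈ Q := h2 ((hsj _).1 h3)
    have h5 := (mem_normalizer_iff.1 (hCQ (hT0C (mul_mem hs' (inv_mem hs)))) _).1 h4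
    have e2 : s' * s⁻¹ * (s * (s'⁻¹ * w * s') * s⁻¹) * (s' * s⁻¹)⁻¹ = w := by group
    rwa [e2] at h5
  -- 2.
  have hZ1C : ∀ z ∈ zc (S : Subgroup G), pr N O z ∈ T₀ := fun z _ => hUT (pr_mem N O z)
  have h2 : ¬ Q ≤ T₀ := by
    intro hQT
    have h1 : pr N O ζ ∈ Q := by
      refine hC2 ⟨hUCC (pr_mem N O ζ), mem_centralizer_iff.2 fun q hq => ?_⟩
      exact mul_inv_eq_iff_eq_mul.1 (hO.fix h hSP (hQT hq) hζ)
    have h3 := hinf _ (pr_mem_uo ζ) h1
    refine zc_ne (N := N) hζ hζ1 i ?_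
    rw [← e_pr_in (N := N) (O := O) hO.mem, h3, e_one (M := N)]
    rfl
  obtain ⟨s, hsQ, hsT⟩ := SetLike.not_le_iff_exists.1 h2
  set T₂ := T₀ ⊔ Q with hT2
  have hT2p : IsPGroup 2 T₂ :=
    IsPGroup.to_sup_of_normal_right' (S.isPGroup'.to_le h.le) (o2_isPGroup _) (hT0C.trans hCQ)
  obtain ⟨S₂, hS2⟩ := hT2p.exists_le_sylow
  have hcS : Nat.card (S₂ : Subgroup G) = Nat.card (S : Subgroup G) := by
    rw [Sylow.card_eq_multiplicity, Sylow.card_eq_multiplicity]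
  have hcT : 2 * Nat.card T₀ ≤ Nat.card T₂ :=
    Cfsg.Agent.SectRankFour.C2.BThreeA.two_mul_card_le le_sup_left (p := s) (le_sup_right (a := T₀) hsQ) hsT
  have hT2S : T₂ = (S₂ : Subgroup G) := by
    refine Subgroup.eq_of_le_of_card_ge hS2 ?_
    rw [hcS, h.card]
    exact hcT
  have htwo : Two T₂ T₀ := by
    have hcard : Nat.card T₂ = 2 * Nat.card T₀ := by rw [hT2S, hcS, h.card]
    have h1 := Cfsg.Agent.SectRankFour.C2.BThreeA.card_mul_relIndex (le_sup_left : T₀ ≤ T₂)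
    have h3 : T₀.relIndex T₂ = 2 := by
      rw [hcard, mul_comm 2] at h1
      exact Nat.eq_of_mul_eq_mul_left Nat.card_pos h1
    refine ⟨le_sup_left, ⟨s, le_sup_right (a := T₀) hsQ, hsT⟩, fun a ha b hb ha' hb' => ?_⟩
    have h4 := (Subgroup.mul_mem_iff_of_index_two (G := T₂) (H := T₀.subgroupOf T₂) h3
      (a := ⟨a, ha⟩) (b := ⟨b, hb⟩)).2 (iff_of_false ha' hb')
    exact h4
  have hQT2 : ∀ q ∈ Q, q ∈ T₂ := fun q hq => le_sup_right (a := T₀) hq
  -- 3.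
  have h3 : ∀ q ∈ Q, q ∈ T₀ → ∀ v ∈ uo N O, q * v * q⁻¹ = v := by
    intro q hq hqT v hv
    have h4 : q * v * q⁻¹ * v⁻¹ ∈ uo N O := by
      refine mul_mem ⟨cmem hPU (hSP (h.le hqT)) hv.1, hO.pres q hqT v hv.1 hv.2⟩ (inv_mem hv)
    have h5 : q * (v * q⁻¹ * v⁻¹) ∈ Q :=
      mul_mem hq ((mem_normalizer_iff.1 (hCQ (hUCC hv.1)) _).1 (inv_mem hq))
    have e1 : q * (v * q⁻¹ * v⁻¹) = q * v * q⁻¹ * v⁻¹ := by group
    rw [e1] at h5
    exact mul_inv_eq_one.1 (hinf _ h4 h5)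
  have h3s : ¬ ∀ v ∈ uo N O, s * v * s⁻¹ = v := by
    intro hs
    refine hne fun v hv => hC2 ⟨hUCC hv.1, mem_centralizer_iff.2 fun q hq => ?_⟩
    refine mul_inv_eq_iff_eq_mul.1 ?_
    by_cases hqT : q ∈ T₀
    · exact h3 q hq hqT v hv
    · have h4 : q * s⁻¹ ∈ T₀ := htwo.mul q (hQT2 q hq) _ (inv_mem (hQT2 s hsQ)) hqT fun h5 => hsT (inv_mem_iff.1 h5)
      have h5 := h3 _ (mul_mem hq (inv_mem hsQ)) h4 v hv
      have h6 : q * v * q⁻¹ = q * s⁻¹ * (s * v * s⁻¹) * (q * s⁻¹)⁻¹ := by group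
      rw [h6, hs v hv, h5]
  -- `(s n s⁻¹)^l = s n^l s⁻¹`
  have hl : ∀ l ∈ P, ∀ B, Ac N l (Pi.mulSingle i B) → ∀ n ∈ uo N O,
      l * (s * n * s⁻¹) * l⁻¹ = s * (l * n * l⁻¹) * s⁻¹ ∧ l * n * l⁻¹ ∈ uo N O := by
    intro l hlP B hac n hn
    have hlC := hLC l hlP i hO.mem B hac
    have hluo : ∀ m ∈ P, ∀ B, Ac N m (Pi.mulSingle i B) → ∀ n ∈ uo N O, m * n * m⁻¹ ∈ uo N O := by
      intro m hm B hac n hn
      refine ⟨cmem hPU hm hn.1, fun j hj => ?_⟩
      have hji : j ≠ i := fun h => hj (h ▸ hO.mem)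
      rw [hac n hn.1 j, Pi.mulSingle_eq_of_ne hji, ap_one]
      exact hn.2 j hj
    have hs' : l * s * l⁻¹ ∈ Q := (mem_normalizer_iff.1 (hCQ hlC) s).1 hsQ
    have hs'T : l * s * l⁻¹ ∉ T₀ := by
      intro h4
      refine h3s fun v hv => ?_
      have h5 := h3 _ hs' h4 _ (hluo l hlP B hac v hv)
      have e1 : l * s * l⁻¹ * (l * v * l⁻¹) * (l * s * l⁻¹)⁻¹ = l * (s * v * s⁻¹) * l⁻¹ := by group
      rw [e1] at h5
      exact mul_left_cancel (mul_right_cancel h5)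
    have hcT : s⁻¹ * (l * s * l⁻¹) ∈ T₀ :=
      htwo.mul _ (inv_mem (hQT2 s hsQ)) _ (hQT2 _ hs') (fun h5 => hsT (inv_mem_iff.1 h5)) hs'T
    have h4 := h3 _ (mul_mem (inv_mem hsQ) hs') hcT _ (hluo l hlP B hac n hn)
    refine ⟨?_, hluo l hlP B hac n hn⟩
    have e1 : l * (s * n * s⁻¹) * l⁻¹ = s * (s⁻¹ * (l * s * l⁻¹) * (l * n * l⁻¹) * (s⁻¹ * (l * s * l⁻¹))⁻¹) * s⁻¹ := by
      group
    rw [e1, h4]
  -- 4.
  have hzT2 : zc T₂ = zo N Oᶜ := by
    obtain ⟨g, hg⟩ := MulAction.exists_smul_eq G S S₂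
    have h4 : Nat.card (zc T₂) = Nat.card (zc (S : Subgroup G)) := by
      have h5 : T₂ = MulAut.conj g • (S : Subgroup G) := by
        rw [hT2S, ← hg]; rfl
      rw [h5, Cfsg.Agent.MinSimple.CosetFam.zc_conj]
      exact (Nat.card_congr (Subgroup.equivSMul (MulAut.conj g) (zc (S : Subgroup G))).toEquiv).symm
    have h5 : zo N Oᶜ ≤ zc T₂ := by
      intro v hv
      refine MinSimple.VModule.mem_zc.2 ⟨le_sup_left (a := T₀) (hZ2T hv), fun b hb => ?_,
        hUsq v (zo_le_uo _ hv).1⟩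
      have h6 : T₂ ≤ C := sup_le hT0C hQC
      exact (mem_centralizer_iff.1 (h6 hb) v hv).symm
    refine (Subgroup.eq_of_le_of_card_ge h5 ?_).symm
    rw [h4]
    exact hO.card_zo h hSP
  -- 5.
  set n := pr N O ζ with hn
  have hnu : n ∈ uo N O := pr_mem_uo ζ
  have hnT : n ∈ T₀ := hUT hnu.1
  have hnfix : ∀ b ∈ T₀, b * n * b⁻¹ = n := fun b hb => hO.fix h hSP hb hζ
  have hsn : s * n * s⁻¹ ∈ T₀ := htwo.conj (hQT2 s hsQ) hnT
  have hsnfix : ∀ b ∈ T₀, b * (s * n * s⁻¹) * b⁻¹ = s * n * s⁻¹ := by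
    intro b hb
    have h4 : s⁻¹ * b * s ∈ T₀ := by
      have := htwo.conj (inv_mem (hQT2 s hsQ)) hb
      rwa [inv_inv] at this
    have e1 : b * (s * n * s⁻¹) * b⁻¹ = s * ((s⁻¹ * b * s) * n * (s⁻¹ * b * s)⁻¹) * s⁻¹ := by group
    rw [e1, hnfix _ h4]
  have hnsq : n * n = 1 := by rw [← pow_two]; exact hUsq n hnu.1
  have hninv : n⁻¹ = n := inv_eq_of_mul_eq_one_left hnsq
  have hss : s * s ∈ T₀ := htwo.mul s (hQT2 s hsQ) s (hQT2 s hsQ) hsT hsT
  have hcomm : s * n * s⁻¹ * n = n * (s * n * s⁻¹) := by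
    have h4 := hnfix _ hsn
    exact mul_inv_eq_iff_eq_mul.1 h4
  have hw : s * n * s⁻¹ * n⁻¹ ∈ zo N Oᶜ := by
    rw [← hzT2, hninv]
    have hwT : s * n * s⁻¹ * n ∈ T₀ := mul_mem hsn hnT
    have hwfix : ∀ b ∈ T₀, b * (s * n * s⁻¹ * n) * b⁻¹ = s * n * s⁻¹ * n := by
      intro b hb
      have e1 : b * (s * n * s⁻¹ * n) * b⁻¹ = b * (s * n * s⁻¹) * b⁻¹ * (b * n * b⁻¹) := by group
      rw [e1, hsnfix b hb, hnfix b hb]
    have hwfix2 : s * (s * n * s⁻¹ * n) * s⁻¹ = s * n * s⁻¹ * n := by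
      have e1 : s * (s * n * s⁻¹ * n) * s⁻¹ = (s * s) * n * (s * s)⁻¹ * (s * n * s⁻¹) := by group
      rw [e1, hnfix _ hss, hcomm]
    refine MinSimple.VModule.mem_zc.2 ⟨le_sup_left (a := T₀) hwT, fun b hb => ?_, ?_⟩
    · refine mul_inv_eq_iff_eq_mul.1 ?_
      by_cases hbT : b ∈ T₀
      · exact hwfix b hbT
      · have h4 : b * s⁻¹ ∈ T₀ := htwo.mul b hb _ (inv_mem (hQT2 s hsQ)) hbT fun h5 => hsT (inv_mem_iff.1 h5)
        have e1 : b * (s * n * s⁻¹ * n) * b⁻¹ = b * s⁻¹ * (s * (s * n * s⁻¹ * n) * s⁻¹) * (b * s⁻¹)⁻¹ := by group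
        rw [e1, hwfix2, hwfix _ h4]
    · have e1 : s * n * s⁻¹ * n * (s * n * s⁻¹ * n) = s * n * s⁻¹ * (n * (s * n * s⁻¹)) * n := by group
      rw [pow_two, e1, ← hcomm]
      have e2 : s * n * s⁻¹ * (s * n * s⁻¹ * n) * n = s * (n * n) * s⁻¹ * (n * n) := by group
      rw [e2, hnsq]; group
  obtain ⟨l, hlP, hac⟩ := lift_ac (M := N) (Pi.mulSingle i (lo 1))
  obtain ⟨h5, hm⟩ := hl l hlP _ hac n hnu
  have hlw : l * (s * n * s⁻¹ * n⁻¹) * l⁻¹ = s * n * s⁻¹ * n⁻¹ := by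
    have h6 := mem_centralizer_iff.1 (hLC l hlP i hO.mem _ hac) _ hw
    rw [← h6, mul_inv_cancel_right]
  set m := l * n * l⁻¹ with hmdef
  have e3 : l * (s * n * s⁻¹ * n⁻¹) * l⁻¹ = l * (s * n * s⁻¹) * l⁻¹ * m⁻¹ := by rw [hmdef]; group
  rw [e3, h5] at hlw
  -- `s m s⁻¹ m⁻¹ = s n s⁻¹ n⁻¹`
  have hy : s * (m⁻¹ * n) * s⁻¹ = m⁻¹ * n := by
    have e4 : s * (m⁻¹ * n) * s⁻¹ = (s * m * s⁻¹)⁻¹ * (s * n * s⁻¹ * n⁻¹) * n := by group
    rw [e4, ← hlw]; group
  have hyu : m⁻¹ * n ∈ uo N O := mul_mem (inv_mem hm) hnu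
  have hyQ : m⁻¹ * n ∈ Q := by
    refine hC2 ⟨hUCC hyu.1, mem_centralizer_iff.2 fun q hq => mul_inv_eq_iff_eq_mul.1 ?_⟩
    by_cases hqT : q ∈ T₀
    · exact h3 q hq hqT _ hyu
    · have h6 : q * s⁻¹ ∈ T₀ := htwo.mul q (hQT2 q hq) _ (inv_mem (hQT2 s hsQ)) hqT fun h7 => hsT (inv_mem_iff.1 h7)
      have e5 : q * (m⁻¹ * n) * q⁻¹ = q * s⁻¹ * (s * (m⁻¹ * n) * s⁻¹) * (q * s⁻¹)⁻¹ := by group
      rw [e5, hy, h3 _ (mul_mem hq (inv_mem hsQ)) h6 _ hyu]
  have hy1 : m = n := (inv_mul_eq_one.1 (hinf _ hyu hyQ))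
  have hx0 : N.e n i 0 ≠ 0 := by
    intro h0
    refine zc_ne (N := N) hζ hζ1 i ?_
    rw [hn, e_pr_in hO.mem] at h0
    exact ext2 h0 (zc_snd hζ i)
  have h7 := hac n hnu.1 i
  rw [← hmdef, hy1, Pi.mulSingle_eq_same, ap_lo] at h7
  have h8 := congrFun h7 1
  have h9 : N.e n i 1 = 0 := by rw [hn, e_pr_in hO.mem]; exact zc_snd hζ i
  simp only [Matrix.cons_val_one, Matrix.cons_val_zero, one_mul, h9, add_zero] at h8
  exact hx0 h8.symm

end half

end Cfsg.Agent.Omega.NOThreeL.RLow.KTwo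

end

section


/-!
# [R-low] (#21762, helper597), (2): `k ≥ 2` is dead

`blk_le_o2` : if `C_V(B) = R_i F`, `ζ ζ_i ∈ F` (`ζ ∈ Z`), `F ∩ U` has no vector of full support and `|Z| > 2`, then the
block `N_i` lies in `O₂(C_G(F))` (= the block is not bad).
-/

set_option autoImplicit false

namespace Cfsg.Agent.Omega.NOThreeL.RLow.KTwo

open Subgroup Cfsg Cfsg.Agent.ZN Cfsg.Agent.Omega.MinPar
open Cfsg.Agent.Omega.FFThm (NatKM ActsSL)
open Cfsg.Agent.MinSimple.VModule (zc_le_zl zc_sq o2_isPGroup)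
open Cfsg.Agent.Omega.NOThreeL.Low (Blk Rtv blk mem_blk exists_blk)
open Cfsg.Agent.Omega.NOThreeL.NF.NatR

universe u

variable {G : Type u} [Group G] [Finite G] {S : Sylow 2 G} {P : Subgroup G} {K : Type} [Field K] {k : ℕ}
  {N : NatKM K (S : Subgroup G) P (zl (S : Subgroup G) P) ⊥ k} {i : Fin k}

omit [Finite G] in
/-- `S` does not normalise the block `i` if `k ≥ 2`. -/
theorem not_le_normalizer_blk (hk : 2 ≤ k) :
    ¬ (S : Subgroup G) ≤ (S : Subgroup G) ⊓ normalizer (blk N i : Set G) := by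
  intro h
  have h2 : ∃ j : Fin k, j ≠ i := by
    by_contra hcon
    push Not at hcon
    have h1 : Nat.card (Fin k) ≤ 1 := by
      rw [Finite.card_le_one_iff_subsingleton]
      exact ⟨fun a b => by rw [hcon a, hcon b]⟩
    rw [Nat.card_fin] at h1
    omega
  obtain ⟨j, hj⟩ := h2
  obtain ⟨t, ht, h3⟩ := N.trans i j
  obtain ⟨v, hv, hvi, hvj⟩ := exists_pt (M := N) i ![0, 1]
  have h4 : v ∈ blk N i := ⟨hv, hvj⟩
  have h5 : t * v * t⁻¹ ∈ blk N i := (mem_normalizer_iff.1 (h ht).2 v).1 h4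
  have h6 := (h3 v hv).1 (h5.2 j hj)
  rw [hvi] at h6
  exact one_ne_zero (congrFun h6 1)

/-- **(2)** `k ≥ 2` is dead. -/
theorem blk_le_o2 (hc : IsCharacteristicTwoType G) (hP : IsParS (S : Subgroup G) P) (hk : 2 ≤ k)
    (hZ : 2 < Nat.card (zc (S : Subgroup G))) {V F B : Subgroup G} (hUV : zl (S : Subgroup G) P ≤ V)
    (Vc : ∀ a ∈ V, ∀ b ∈ V, a * b = b * a) (FV : F ≤ V) (BS : B ≤ (S : Subgroup G))
    (BN : B ≤ normalizer (blk N i : Set G))
    (CVB : ∀ v ∈ V, (∀ b ∈ B, b * v = v * b) → ∃ r, Rtv N i r ∧ r⁻¹ * v ∈ F)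
    (zF : ∀ z ∈ zc (S : Subgroup G), ∃ r, Rtv N i r ∧ N.e r i = N.e z i ∧ r⁻¹ * z ∈ F)
    (nfull : ∀ f ∈ F, f ∈ zl (S : Subgroup G) P → ∃ j, N.e f j = 0) :
    blk N i ≤ o2 (centralizer (F : Set G)) := by
  have hSP : (S : Subgroup G) ≤ P := hP.le
  obtain ⟨T₀, h1, h⟩ := exists_two S.isPGroup' inf_le_left (not_le_normalizer_blk (N := N) (i := i) hk)
  obtain ⟨O, hO⟩ := exists_half (N := N) (le_normalizer_zl _ _) hSP h h1
  have hF2 : ∀ z ∈ zc (S : Subgroup G), pr N Oᶜ z ∈ F := by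
    intro z hz
    have hzU := zc_le_zl _ P hz
    by_cases hz1 : z = 1
    · rw [hz1, pr_one]; exact one_mem _
    obtain ⟨r, hr, hrF⟩ := CVB (pr N Oᶜ z) (hUV (pr_mem N Oᶜ z)) fun b hb =>
      mul_inv_eq_iff_eq_mul.1 (hO.fix' h hSP (h1 ⟨BS hb, BN hb⟩) hz)
    by_cases hr1 : N.e r i = 0
    · have h2 : r = 1 := by
        refine e_inj (M := N) hr.1.1 (one_mem _) ?_
        rw [e_one (M := N)]
        funext j
        by_cases hj : j = i
        · rw [hj]; exact hr1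
        · exact hr.1.2 j hj
      rwa [h2, inv_one, one_mul] at hrF
    · exfalso
      -- `z' ∈ Z - {1, z}`
      obtain ⟨z', hz', hz'1, hz'z⟩ : ∃ z' ∈ zc (S : Subgroup G), z' ≠ 1 ∧ z' ≠ z := by
        by_contra hcon
        push Not at hcon
        have h2 : ((zc (S : Subgroup G) : Subgroup G) : Set G) ⊆ {1, z} := by
          intro y hy
          by_cases hy1 : y = 1
          · exact Or.inl hy1
          · exact Or.inr (hcon y hy hy1)
        have h3 := Set.ncard_le_ncard h2 (Set.toFinite _)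
        have h4 : ({1, z} : Set G).ncard ≤ 2 := (Set.ncard_insert_le 1 {z}).trans (by rw [Set.ncard_singleton])
        have h5 : Nat.card (zc (S : Subgroup G)) = ((zc (S : Subgroup G) : Subgroup G) : Set G).ncard :=
          Nat.card_coe_set_eq _
        omega
      have hz'U := zc_le_zl _ P hz'
      obtain ⟨r', hr', her', hr'F⟩ := zF z' hz'
      have hzz : z * z' ∈ zc (S : Subgroup G) := mul_mem hz hz'
      have hzz1 : z * z' ≠ 1 := by
        intro h2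
        have h3 : z * z = 1 := by rw [← pow_two]; exact zc_sq _ _ hz
        exact hz'z (mul_left_cancel (h2.trans h3.symm))
      have hf : r⁻¹ * pr N Oᶜ z * (r'⁻¹ * z') ∈ F := mul_mem hrF hr'F
      have hfU : r⁻¹ * pr N Oᶜ z ∈ zl (S : Subgroup G) P := mul_mem (inv_mem hr.1.1) (pr_mem N Oᶜ z)
      have hf'U : r'⁻¹ * z' ∈ zl (S : Subgroup G) P := mul_mem (inv_mem hr'.1.1) hz'U
      obtain ⟨j, hj⟩ := nfull _ hf (mul_mem hfU hf'U)
      rw [N.mul _ hfU _ hf'U, N.mul _ (inv_mem hr.1.1) _ (pr_mem N Oᶜ z), N.mul _ (inv_mem hr'.1.1) _ hz'U,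
        e_inv hr.1.1, e_inv hr'.1.1] at hj
      simp only [Pi.add_apply, Pi.neg_apply] at hj
      by_cases hji : j = i
      · rw [hji, her', neg_add_cancel, add_zero, e_pr_out (fun h' : i ∈ Oᶜ => h' hO.mem), add_zero, neg_eq_zero] at hj
        exact hr1 hj
      · rw [hr.1.2 j hji, hr'.1.2 j hji, neg_zero, zero_add, zero_add] at hj
        by_cases hjO : j ∈ O
        · rw [e_pr_out (fun h' : j ∈ Oᶜ => h' hjO), zero_add] at hj
          exact zc_ne hz' hz'1 j hj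
        · rw [e_pr_in (O := Oᶜ) hjO] at hj
          refine zc_ne (N := N) hzz hzz1 j ?_
          rw [N.mul _ hzU _ hz'U]
          exact hj
  have hZF : zo N Oᶜ ≤ F := by
    rintro _ ⟨z, hz, rfl⟩
    exact hF2 z hz
  have hXC : centralizer (F : Set G) ≤ centralizer (zo N Oᶜ : Set G) := centralizer_le hZF
  have h2 : blk N i ≤ o2 (centralizer (zo N Oᶜ : Set G)) := (blk_le_uo hO.mem).trans (half_le hc hP h h1 hO)
  have h3 : blk N i ≤ centralizer (F : Set G) := fun v hv => mem_centralizer_iff.2 fun f hf =>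
    Vc f (FV hf) v (hUV hv.1)
  have h4 : o2 (centralizer (zo N Oᶜ : Set G)) ⊓ centralizer (F : Set G) ≤ o2 (centralizer (F : Set G)) := by
    refine le_o2 inf_le_right ((o2_isPGroup _).to_le inf_le_left) ?_
    refine le_trans (le_inf (hXC.trans (le_normalizer_o2 _)) le_normalizer) inf_normalizer_le_normalizer_inf
  exact (le_inf h2 h3).trans h4

end Cfsg.Agent.Omega.NOThreeL.RLow.KTwo

end

section


/-!
# THEOREM R-LOW (#21762, helper597), part R2: `k ≥ 2` is impossible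
-/

set_option autoImplicit false

namespace Cfsg.Agent.Omega.NOThreeL.RLow

open Subgroup Cfsg Cfsg.Agent.ZN
open Cfsg.Agent.Omega.NOThreeL.Low (Blk blk)

universe u

/-- **R2**: `k ≥ 2` is impossible. -/
theorem r2 : StR2.{u} := by
  intro G _ _ S V F B P K _ _ _ k N i β s hCVB hk
  have hBN : B ≤ normalizer (blk N i : Set G) := by
    intro b hb
    rw [mem_normalizer_iff]
    intro v
    refine ⟨fun hv => (s.act b hb v hv).1, fun hv => ?_⟩
    have h1 := (s.act b⁻¹ (inv_mem hb) _ hv).1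
    have e1 : b⁻¹ * (b * v * b⁻¹) * b⁻¹⁻¹ = v := by group
    rwa [e1] at h1
  have h1 := KTwo.blk_le_o2 s.ctx.char2 s.hP hk s.card s.UV (fun a ha b hb => s.flat.V_comm ha hb)
    s.flat.F_le_V s.BS hBN hCVB s.zF s.nfull
  obtain ⟨w, hw, hwE⟩ := s.bad_i
  exact hwE ⟨s.UV hw.1, h1 hw⟩

end Cfsg.Agent.Omega.NOThreeL.RLow

end
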