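import Cfsg.Agent.Mrg.Omega.NOThreeL.Low.PmNat
import Cfsg.Agent.S1161

section


/-!
# NO-3L, LOW (#19093 (8), helper876): movers of a minimal parabolic, symmetric case

* `le_of_swap` : `S ≤ K ≤ P` and some element of `K` acts as a transposition `(0 x)` : `P ≤ K`;
* `pm_sym` : `PM S P` if `V_P` is a sum of even-subset modules, `C_Z(P) = 1`;
* `pm` : `PM S P` for every `P ∈ P*(S)` with an offender on `V_P`, if `C_Z(P) = 1`.
-/

set_option autoImplicit false

namespace Cfsg.Agent.Omega.NOThreeL.Low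

open Subgroup Cfsg
open Cfsg.Agent.ZN
open Cfsg.Agent.Omega.MinPar Cfsg.Agent.Omega.Frame
open Cfsg.Agent.Omega.FFThm (SymK SymKM ActsSym OffM)
open Cfsg.Agent.Omega.FrameFF (cv)
open Cfsg.Agent.Omega.Half (Amb)
open Cfsg.Agent.Omega.Half.SymA
open Cfsg.Agent.Omega.NOThreeL.NF.SymRP
open Cfsg.Agent.Omega.NOThreeL.Basic (DataZ)
open scoped Classical

universe u

variable {G : Type u} [Group G]

section sym

variable {S P : Subgroup G} {k m : ℕ}

theorem pm_mul (τ τ' : Fin k → Equiv.Perm (Fin (2 ^ m + 1))) :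
    pm 1 (τ * τ') = (pm 1 τ * pm 1 τ' : Equiv.Perm (Pt k m)) := by
  ext1 p
  rfl

theorem pm_one : (pm 1 1 : Equiv.Perm (Pt k m)) = 1 := by
  ext1 p
  rfl

theorem pm_inv (τ : Fin k → Equiv.Perm (Fin (2 ^ m + 1))) :
    pm 1 τ⁻¹ = ((pm 1 τ)⁻¹ : Equiv.Perm (Pt k m)) := by
  rw [eq_inv_iff_mul_eq_one, ← pm_mul, inv_mul_cancel, pm_one]

/-- `S ≤ K ≤ P` and some element of `K` acts as a transposition `(0 x)`. -/
theorem le_of_swap (M : SymK S P (zl S P) ⊥ k m) (hA : Amb S P (zl S P)) (hm : 1 ≤ m)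
    (htr : ∀ p q : Pt k m, p.2 ≠ 0 → q.2 ≠ 0 → ∃ t ∈ S, ∃ π, Mv M t π ∧ π p = q) (hP : IsParS S P)
    {K : Subgroup G} (hSK : S ≤ K) (hKP : K ≤ P) {g : G} (hg : g ∈ K) {p₀ : Pt k m} (hp₀ : p₀.2 ≠ 0)
    (hac : Mv M g (Equiv.swap (p₀.1, 0) p₀)) : P ≤ K := by
  refine eq_of_sup hP hSK hKP ?_
  set K' : Subgroup G := K ⊔ (P ⊓ centralizer (zl S P : Set G)) with hK'
  have hKK' : K ≤ K' := le_sup_left
  have hCK' : P ⊓ centralizer (zl S P : Set G) ≤ K' := le_sup_right
  have hK'P : K' ≤ P := sup_le hKP inf_le_left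
  -- the transpositions `(0 r)`
  have h1 : ∀ r : Pt k m, r.2 ≠ 0 → ∃ n ∈ K', Mv M n (Equiv.swap (r.1, 0) r) := by
    intro r hr
    obtain ⟨t, ht, π, hπ, h2⟩ := htr p₀ r hp₀ hr
    have h3 := hπ.conj hA (hA.TH ht) hac (hKP hg)
    have h4 : π * Equiv.swap (p₀.1, 0) p₀ * π⁻¹ = Equiv.swap (π (p₀.1, 0)) (π p₀) :=
      (Equiv.swap_apply_apply π _ _).symm
    have h5 : π (p₀.1, 0) = (r.1, 0) := by
      refine Prod.ext ?_ ?_
      · have := hπ.fst hA hm (hA.TH ht) (p := (p₀.1, 0)) (q := p₀) rfl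
        rw [this, h2]
      · exact (hπ.snd hA hm ht (p := (p₀.1, 0))).2 rfl
    rw [h4, h5, h2] at h3
    exact ⟨t * g * t⁻¹, mul_mem (mul_mem (hKK' (hSK ht)) (hKK' hg)) (inv_mem (hKK' (hSK ht))), h3⟩
  -- all transpositions
  have h2 : ∀ p q : Pt k m, p.1 = q.1 → ∃ n ∈ K', Mv M n (Equiv.swap p q) := by
    intro p q hpq
    by_cases hp : p.2 = 0
    · by_cases hq : q.2 = 0
      · have h3 : p = q := Prod.ext hpq (hp.trans hq.symm)
        rw [h3, Equiv.swap_self]
        exact ⟨1, one_mem _, Mv_one M⟩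
      · have h3 : p = (q.1, 0) := Prod.ext hpq hp
        rw [h3]
        exact h1 q hq
    · by_cases hq : q.2 = 0
      · have h3 : q = (p.1, 0) := Prod.ext hpq.symm hq
        rw [h3, Equiv.swap_comm]
        exact h1 p hp
      · by_cases hne : p = q
        · rw [hne, Equiv.swap_self]
          exact ⟨1, one_mem _, Mv_one M⟩
        obtain ⟨n, hn, hnac⟩ := h1 p hp
        obtain ⟨n', hn', hnac'⟩ := h1 q hq
        have h3 := hnac.conj hA (hK'P hn) hnac' (hK'P hn')
        have h4 : Equiv.swap (p.1, 0) p * Equiv.swap (q.1, 0) q * (Equiv.swap (p.1, 0) p)⁻¹ =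
            Equiv.swap (Equiv.swap (p.1, 0) p (q.1, 0)) (Equiv.swap (p.1, 0) p q) :=
          (Equiv.swap_apply_apply _ _ _).symm
        have h5 : Equiv.swap (p.1, 0) p (q.1, 0) = p := by rw [← hpq, Equiv.swap_apply_left]
        have h6 : Equiv.swap (p.1, 0) p q = q :=
          Equiv.swap_apply_of_ne_of_ne (fun h => hq (by rw [h])) (Ne.symm hne)
        rw [h4, h5, h6] at h3
        exact ⟨_, mul_mem (mul_mem hn hn') (inv_mem hn), h3⟩
  let Γ : Subgroup (Fin k → Equiv.Perm (Fin (2 ^ m + 1))) :=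
    { carrier := {τ | ∃ n ∈ K', Mv M n (pm 1 τ)}
      mul_mem' := by
        rintro τ τ' ⟨n, hn, h⟩ ⟨n', hn', h'⟩
        exact ⟨n * n', mul_mem hn hn', by rw [pm_mul]; exact h.mul hA h' (hK'P hn')⟩
      one_mem' := ⟨1, one_mem _, by rw [pm_one]; exact Mv_one M⟩
      inv_mem' := by
        rintro τ ⟨n, hn, h⟩
        exact ⟨n⁻¹, inv_mem hn, by rw [pm_inv]; exact h.inv hA (hK'P hn)⟩ }
  have h3 : ∀ (i : Fin k) (σ : Equiv.Perm (Fin (2 ^ m + 1))), Pi.mulSingle i σ ∈ Γ := by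
    intro i σ
    induction σ using Equiv.Perm.swap_induction_on with
    | one => rw [Pi.mulSingle_one]; exact one_mem Γ
    | swap_mul f x y _ ih =>
      rw [Pi.mulSingle_mul]
      refine mul_mem ?_ ih
      obtain ⟨n, hn, h⟩ := h2 (i, x) (i, y) rfl
      refine ⟨n, hn, ?_⟩
      have h4 := pm_swap (k := k) (m := m) (p := (i, x)) (q := (i, y)) rfl
      change pm 1 (Function.update 1 i (Equiv.swap x y)) = _ at h4
      change Mv M n (pm 1 (Function.update 1 i (Equiv.swap x y)))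
      rw [h4]
      exact h
  have hΓ : ∀ τ, τ ∈ Γ := fun τ => pi_mem_of_mulSingle_mem τ fun i => h3 i (τ i)
  refine M.gen K' (hSK.trans hKK') fun h hh τ hτ _ => ?_
  obtain ⟨n, hn, hnac⟩ := hΓ τ
  have h4 := (hnac.inv hA (hK'P hn)).mul hA (mv_pm M hτ) hh
  rw [inv_mul_cancel] at h4
  have h5 : n⁻¹ * h ∈ P := mul_mem (inv_mem (hK'P hn)) hh
  have h6 := mul_mem hn (hCK' ⟨h5, NF.SymG.mem_cent_of_mv_one hA h5 h4⟩)
  rwa [mul_inv_cancel_left] at h6

end sym

theorem swap_pow_odd {α : Type*} [DecidableEq α] (p q : α) {n : ℕ} (hn : Odd n) :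
    Equiv.swap p q ^ n = Equiv.swap p q := by
  obtain ⟨t, rfl⟩ := hn
  rw [pow_succ, pow_mul, pow_two, Equiv.swap_mul_self, one_pow, one_mul]

/-- **the symmetric case** -/
theorem pm_sym [Finite G] (hG : IsCharacteristicTwoType G) {S : Sylow 2 G} {P : Subgroup G}
    (hP : IsParS (S : Subgroup G) P) (hz : zc (S : Subgroup G) ≠ ⊥) (hD : cv (S : Subgroup G) P = ⊥) {k m : ℕ}
    (hm : 1 ≤ m) (M : SymK (S : Subgroup G) P (zl (S : Subgroup G) P) (cv (S : Subgroup G) P) k m) :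
    PM (S : Subgroup G) P := by
  rw [hD] at M
  have hA : Amb (S : Subgroup G) P (zl (S : Subgroup G) P) := Half.amb_of_loc hG S hP.isLoc
  intro v hv hv1
  by_cases hex : ∃ p : Pt k m, p.2 ≠ 0 ∧ E M v (p.1, 0) = E M v p
  · right
    obtain ⟨p, hp, hE⟩ := hex
    obtain ⟨g0, hg0, hac0⟩ := exists_swap (M := M) (p := (p.1, 0)) (q := p) rfl
    obtain ⟨n, hn, a, ha⟩ := exists_odd_pow g0
    have hac := hac0.pow hA hg0 n
    rw [swap_pow_odd _ _ hn] at hac
    have hgP := pow_mem hg0 n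
    have hgv : g0 ^ n * v = v * g0 ^ n := mul_inv_eq_iff_eq_mul.1 (comm_of_eq hA hgP hac hv hE)
    refine ⟨zpowers (g0 ^ n), zpowers_le.2 hgP, isPGroup_zpowers ha, fun x hx => comm_zpowers hgv hx, ?_⟩
    exact le_of_swap M hA hm (fun p q hp hq => trans_pts S hA hm hp hq) hP le_sup_right
      (sup_le (zpowers_le.2 hgP) hP.le) ((le_sup_left : zpowers (g0 ^ n) ≤ _) (mem_zpowers _)) hp hac
  · left
    push Not at hex
    obtain ⟨⟨z, hzS⟩, hz1⟩ := Subgroup.ne_bot_iff_exists_ne_one.1 hz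
    have hz1 : z ≠ 1 := fun h => hz1 (Subtype.ext h)
    have hE := E_zc (M := M) hA hm hzS hz1
    have h0 : ∀ i : Fin k, E M v (i, 0) = 0 := by
      intro i
      have h1 := even M hv i
      rw [Fin.sum_univ_succ] at h1
      have h2 : ∑ x : Fin (2 ^ m), E M v (i, x.succ) = 0 := by
        have h3 : ∀ x ∈ (Finset.univ : Finset (Fin (2 ^ m))), E M v (i, x.succ) = 1 + E M v (i, 0) := by
          intro x _
          have h4 := hex (i, x.succ) (Fin.succ_ne_zero x)
          change E M v (i, 0) ≠ E M v (i, x.succ) at h4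
          revert h4
          generalize E M v (i, 0) = a
          generalize E M v (i, x.succ) = b
          revert a b
          decide
        rw [Finset.sum_congr rfl h3, Finset.sum_const, Finset.card_univ, Fintype.card_fin, nsmul_eq_mul]
        have h4 : ((2 ^ m : ℕ) : ZMod 2) = 0 := by
          rw [ZMod.natCast_eq_zero_iff]
          exact dvd_pow_self 2 (by omega)
        rw [h4, zero_mul]
      rwa [h2, add_zero] at h1
    have hvz : v = z := by
      refine inj M hv (hA.zc hzS) fun p => ?_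
      rw [hE]
      by_cases hp : p.2 = 0
      · rw [if_pos hp]
        have h5 : p = (p.1, 0) := Prod.ext rfl hp
        rw [h5]
        exact h0 _
      · rw [if_neg hp]
        have h4 := hex p hp
        rw [h0] at h4
        exact zmod2_ne.1 (Ne.symm h4)
    exact ⟨1, one_mem _, by rw [one_mul, inv_one, mul_one, hvz]; exact hzS⟩

/-- **`PM S P` from the FF theorem.** -/
theorem pm [Finite G] (h : Ctx G) {S : Sylow 2 G} (D : DataZ (S : Subgroup G)) {P : Subgroup G}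
    (hP : IsParS (S : Subgroup G) P) (hoff : ∃ A : Subgroup G, A ≤ P ∧ OffM (zl (S : Subgroup G) P) A) :
    PM (S : Subgroup G) P := by
  have hc := h.char2
  have hcv : cv (S : Subgroup G) P = ⊥ := D.cv_eq hc hP
  have hz := MinSimple.Basic.zc_ne_bot S.isPGroup' (h.sylow_ne_bot S)
  obtain ⟨-, hcon⟩ := StarEnd.stmtM G (S : Subgroup G) P (MinSimple.EmptyTI.syl_of_le hP.le)
    hP.toIsMinPar (hP.isLoc.char2 S hc) hoff
  rcases hcon with ⟨F, _, _, _, k, hk, ⟨M⟩⟩ | ⟨k, m, hk, hm, ⟨M⟩⟩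
  · exact pm_nat hP hz hcv M
  · exact pm_sym hc hP hz hcv (by omega) M.toSymK

end Cfsg.Agent.Omega.NOThreeL.Low

end

section


/-!
# A normal subgroup of odd order which is transitive on `A#` (bb OMEGA 21762 (0), helper597)

`D ⊴ G` of odd order, `G` faithful on the elementary abelian 2-group `A`, `D` transitive on `A#`: with `K := F(D)` (S1161):
`K ⊴ G` cyclic, `K#` without fixed points, `C_D(K) = K`, `[D, G] ≤ K`.
-/

set_option autoImplicit false

namespace Cfsg.Agent.Omega.NOThreeL.Low.OddTrans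

open Subgroup Cfsg

universe u v

theorem le_fitting {G : Type*} [Group G] {N : Subgroup G} (hN : N.Normal)
    (hn : Group.IsNilpotent N) : N ≤ fittingSubgroup G :=
  le_sSup (a := N) (s := {N : Subgroup G | N.Normal ∧ Group.IsNilpotent N}) ⟨hN, hn⟩

/-- the Fitting subgroup is invariant under automorphisms -/
theorem map_fitting {G : Type*} [Group G] (e : G ≃* G) : (fittingSubgroup G).map e.toMonoidHom ≤ fittingSubgroup G := by
  rw [map_le_iff_le_comap]
  refine sSup_le fun N hN => ?_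
  obtain ⟨h1, h2⟩ := hN
  rw [← map_le_iff_le_comap]
  refine le_fitting ?_ ?_
  · exact h1.map _ e.surjective
  · exact Group.nilpotent_of_mulEquiv (N.equivMapOfInjective e.toMonoidHom e.injective)

/-- a central extension of an abelian group is nilpotent -/
theorem nilpotent_of_comm {C : Type*} [Group C] (h : ∀ a b c : C, (a * b * a⁻¹ * b⁻¹) * c = c * (a * b * a⁻¹ * b⁻¹)) :
    Group.IsNilpotent C := by
  apply Group.of_quotient_center_nilpotent
  let _ : CommGroup (C ⧸ center C) :=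
    { mul_comm := fun x y => by
        obtain ⟨a, rfl⟩ := QuotientGroup.mk_surjective x
        obtain ⟨b, rfl⟩ := QuotientGroup.mk_surjective y
        rw [← QuotientGroup.mk_mul, ← QuotientGroup.mk_mul, eq_comm, QuotientGroup.eq, mem_center_iff]
        intro c
        have h1 := h a⁻¹ b⁻¹ c
        have e : (b * a)⁻¹ * (a * b) = a⁻¹ * b⁻¹ * a⁻¹⁻¹ * b⁻¹⁻¹ := by group
        rw [e]
        exact h1.symm }
  infer_instance

/-- **(0) of #21762** -/
theorem exists_fit {G : Type u} [Group G] [Finite G] {E : Type v} [AddCommGroup E] [Finite E] [Nontrivial E]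
    [DistribMulAction G E] (hf : ∀ g : G, (∀ e : E, g • e = e) → g = 1) (h2 : ∀ e : E, e + e = 0) {D : Subgroup G}
    (hD : D.Normal) (hodd : Odd (Nat.card D)) (htr : ∀ a b : E, a ≠ 0 → b ≠ 0 → ∃ d ∈ D, d • a = b) :
    ∃ K : Subgroup G, K ≤ D ∧ K.Normal ∧ IsCyclic K ∧ (∀ g ∈ K, g ≠ 1 → ∀ a : E, g • a = a → a = 0) ∧
      (∀ d ∈ D, (∀ x ∈ K, x * d = d * x) → d ∈ K) ∧ ∀ d ∈ D, ∀ t : G, t * d * t⁻¹ * d⁻¹ ∈ K := by
  have hfs : FaithfulSMul D E := ⟨fun {x y} hxy => by
    have h3 : ((y : G)⁻¹ * x) = 1 := hf _ fun e => by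
      rw [mul_smul, inv_smul_eq_iff]
      exact hxy e
    exact Subtype.ext (inv_mul_eq_one.1 h3).symm⟩
  obtain ⟨h3, h4, h5⟩ := Cfsg.Agent.S1161.result (D := D) (E := E) hodd Nat.prime_two
    (fun e => by rw [two_nsmul]; exact h2 e) (fun a b ha hb => by
      obtain ⟨d, hd, hdb⟩ := htr a b ha hb
      exact ⟨⟨d, hd⟩, hdb⟩)
  set K : Subgroup G := (fittingSubgroup D).map D.subtype with hK
  have hKD : K ≤ D := map_subtype_le _
  have hmem : ∀ {x : G} (hx : x ∈ D), x ∈ K ↔ (⟨x, hx⟩ : D) ∈ fittingSubgroup D := by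
    intro x hx
    constructor
    · rintro ⟨y, hy, hyx⟩
      have : y = ⟨x, hx⟩ := Subtype.ext hyx
      rwa [← this]
    · intro h
      exact ⟨_, h, rfl⟩
  -- `K` is normal
  have hKn : K.Normal := by
    refine ⟨fun n hn g => ?_⟩
    have hnD := hKD hn
    have hgD : g * n * g⁻¹ ∈ D := hD.conj_mem n hnD g
    rw [hmem hgD]
    have h6 := map_fitting (G := D) (MulAut.conjNormal g)
    exact h6 ⟨⟨n, hnD⟩, (hmem hnD).1 hn, Subtype.ext rfl⟩
  have hKc : IsCyclic K := by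
    have e := (fittingSubgroup D).equivMapOfInjective D.subtype D.subtype_injective
    exact isCyclic_of_surjective e.toMonoidHom e.surjective
  have hcomm : ∀ x ∈ K, ∀ y ∈ K, x * y = y * x := by
    intro x hx y hy
    obtain ⟨z, hz⟩ := hKc.exists_generator
    obtain ⟨n, hn⟩ := mem_zpowers_iff.1 (hz ⟨x, hx⟩)
    obtain ⟨m, hm⟩ := mem_zpowers_iff.1 (hz ⟨y, hy⟩)
    have h6 : (⟨x, hx⟩ : K) * ⟨y, hy⟩ = ⟨y, hy⟩ * ⟨x, hx⟩ := by
      rw [← hn, ← hm, ← zpow_add, ← zpow_add, add_comm]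
    exact congrArg Subtype.val h6
  -- commutators of `D` lie in `K`
  have hcm : ∀ a ∈ D, ∀ b ∈ D, a * b * a⁻¹ * b⁻¹ ∈ K := by
    intro a ha b hb
    have h6 : (⟨a, ha⟩ : D) * ⟨b, hb⟩ * (⟨a, ha⟩ : D)⁻¹ * (⟨b, hb⟩ : D)⁻¹ ∈ commutator D :=
      commutator_mem_commutator (mem_top _) (mem_top _)
    have h7 := h5 h6
    exact ⟨_, h7, rfl⟩
  -- `C_D(K) = K`
  have hcen : ∀ d ∈ D, (∀ x ∈ K, x * d = d * x) → d ∈ K := by
    intro d hd hdx
    let C : Subgroup D :=
      { carrier := {c | ∀ x ∈ K, x * (c : G) = c * x}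
        one_mem' := fun x _ => by
          change x * 1 = 1 * x
          rw [mul_one, one_mul]
        mul_mem' := fun {a b} ha hb x hx => by
          change x * ((a : G) * b) = a * b * x
          rw [← mul_assoc, ha x hx, mul_assoc, hb x hx, mul_assoc]
        inv_mem' := fun {a} ha x hx => by
          change x * (a : G)⁻¹ = (a : G)⁻¹ * x
          rw [eq_inv_mul_iff_mul_eq, ← mul_assoc, ← ha x hx, mul_assoc, mul_inv_cancel, mul_one] }
    have hCn : C.Normal := by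
      refine ⟨fun c hc g x hx => ?_⟩
      have h6 := hc ((g : G)⁻¹ * x * g) (by
        have := hKn.conj_mem x hx ((g : G)⁻¹)
        rwa [inv_inv] at this)
      change x * ((g : G) * c * (g : G)⁻¹) = (g : G) * c * (g : G)⁻¹ * x
      calc x * ((g : G) * c * (g : G)⁻¹) = g * ((g : G)⁻¹ * x * g * c) * (g : G)⁻¹ := by group
        _ = g * (c * ((g : G)⁻¹ * x * g)) * (g : G)⁻¹ := by rw [h6]
        _ = _ := by group
    have hCnil : Group.IsNilpotent C := by
      apply nilpotent_of_comm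
      intro a b c
      have h6 := hcm a a.1.2 b b.1.2
      have h7 := c.2 _ h6
      apply Subtype.ext
      apply Subtype.ext
      exact h7
    exact (hmem hd).2 (le_fitting hCn hCnil hdx)
  refine ⟨K, hKD, hKn, hKc, ?_, hcen, ?_⟩
  · rintro _ ⟨g, hg, rfl⟩ hg1 a ha
    refine h4 g hg (fun h6 => hg1 ?_) a ha
    rw [h6]; rfl
  · intro d hd t
    apply hcen
    · exact D.mul_mem (hD.conj_mem d hd t) (D.inv_mem hd)
    · -- `t` and `d` induce commuting automorphisms of the cyclic group `K`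
      intro x hx
      obtain ⟨⟨z, hz⟩, hgen⟩ := hKc.exists_generator
      have hpow : ∀ g : G, ∃ n : ℤ, ∀ y ∈ K, g * y * g⁻¹ = y ^ n := by
        intro g
        obtain ⟨n, hn⟩ := mem_zpowers_iff.1 (hgen ⟨g * z * g⁻¹, hKn.conj_mem z hz g⟩)
        have hn' : z ^ n = g * z * g⁻¹ := congrArg Subtype.val hn
        refine ⟨n, fun y hy => ?_⟩
        obtain ⟨m, hm⟩ := mem_zpowers_iff.1 (hgen ⟨y, hy⟩)
        have hm' : z ^ m = y := congrArg Subtype.val hm
        rw [← hm', ← conj_zpow, ← hn', ← zpow_mul, ← zpow_mul, mul_comm]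
      obtain ⟨n, hn⟩ := hpow t
      obtain ⟨m, hm⟩ := hpow d
      obtain ⟨n', hn'⟩ := hpow t⁻¹
      obtain ⟨m', hm'⟩ := hpow d⁻¹
      have h6 : t * d * t⁻¹ * d⁻¹ * x * (t * d * t⁻¹ * d⁻¹)⁻¹ = x := by
        have e1 : d⁻¹ * x * d = x ^ m' := by
          have := hm' x hx
          rwa [inv_inv] at this
        have e2 : ∀ y ∈ K, t⁻¹ * y * t = y ^ n' := by
          intro y hy
          have := hn' y hy
          rwa [inv_inv] at this
        have k1 : x ^ m' ∈ K := K.zpow_mem hx _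
        have k2 : (x ^ m') ^ n' ∈ K := K.zpow_mem k1 _
        have k3 : ((x ^ m') ^ n') ^ m ∈ K := K.zpow_mem k2 _
        calc t * d * t⁻¹ * d⁻¹ * x * (t * d * t⁻¹ * d⁻¹)⁻¹ =
            t * (d * (t⁻¹ * (d⁻¹ * x * d) * t) * d⁻¹) * t⁻¹ := by group
          _ = (((x ^ m') ^ n') ^ m) ^ n := by rw [e1, e2 _ k1, hm _ k2, hn _ k3]
          _ = (((x ^ m') ^ m) ^ n') ^ n := by
              congr 1
              rw [← zpow_mul, mul_comm n' m, zpow_mul]
          _ = x := by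
              have f1 : (x ^ m') ^ m = x := by
                rw [← hm _ k1, ← e1]; group
              rw [f1]
              have f2 : t * (x ^ n') * t⁻¹ = (x ^ n') ^ n := hn _ (K.zpow_mem hx _)
              rw [← f2, ← e2 x hx]; group
      have h7 : t * d * t⁻¹ * d⁻¹ * x = x * (t * d * t⁻¹ * d⁻¹) := by
        rwa [mul_inv_eq_iff_eq_mul] at h6
      exact h7.symm

end Cfsg.Agent.Omega.NOThreeL.Low.OddTrans

end
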