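import Cfsg.Agent.Mrg.Omega.NOThreeL.NullNff
import Cfsg.Agent.Mrg.Omega.NOThreeL.Low.Defs
import Cfsg.Agent.Mrg.Omega.NOThreeL.StarEnd
import Cfsg.Agent.Mrg.Omega.NO3b.Bang


/-!
# THEOREM LOW (#19191, helper597), P5: the bad line `U = V_P` is FF

* `exists_off` : a module `W` of `S` which is FF has an offender `A ≤ S`;
* `concl` : in NO-3L, `C_Z(P) = 1` for all `P ∈ P*(S)`, `V_P` FF: `V_P` is natural^k or `S_{2^m+1}`-type^k with `D = 1`,
  no over-offenders;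
* `Sit.zc_inf`, `Sit.not_le` : `Z ∩ F = 1`, `V ∩ B ≰ F`; `Sit.not_notFF` : `V_P` is FF;
* `p5` : **P5**; `Sit.concl` : the type of `V_P`.
-/

set_option autoImplicit false

namespace Cfsg.Agent.Omega.NOThreeL.Low

open Subgroup Cfsg
open Cfsg.Agent.ZN
open Cfsg.Agent.ZN.ChoiceBase (cj cj_eq_of_mem_normalizer)
open Cfsg.Agent.Omega.MinPar Cfsg.Agent.Omega.Frame Cfsg.Agent.Omega.FrameNOFF
open Cfsg.Agent.Omega.NO3b.EZero (NotFF)
open Cfsg.Agent.Omega.FFThm (ElemM OffM NoOverM ConclM NatKM SymKM)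
open Cfsg.Agent.Omega.FrameFF (cv)
open Cfsg.Agent.Omega.NOThreeL.Basic (DataZ)
open Cfsg.Agent.Omega.NOne.Flat (Hyp EE WW NN)
open scoped Pointwise

universe u

section ff

variable {G : Type u} [Group G] [Finite G] {S : Sylow 2 G}

/-- A module of `S` which is FF has an offender in `S`. -/
theorem exists_off {W : Subgroup G} (hSW : (S : Subgroup G) ≤ normalizer (W : Set G)) (h : ¬ NotFF W) :
    ∃ A : Subgroup G, A ≤ (S : Subgroup G) ∧ OffM W A := by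
  unfold NO3b.EZero.NotFF at h
  push Not at h
  obtain ⟨A, h1, h2, h3, h4, h5, h6⟩ := h
  obtain ⟨n, hn, hnS⟩ := FFThm.exists_conj_le S hSW h1 h2
  refine ⟨cj n A, hnS, ?_⟩
  have h7 : OffM W A := ⟨⟨h3, h4⟩, h5, FFThm.relIndex_le_iff.2 h6⟩
  have h8 := NO3b.Bang.OffM_cj h7 n
  rwa [cj_eq_of_mem_normalizer hn] at h8

/-- natural^k or `S_{2^m+1}`-type^k, `D = 1` -/
def Tp (S P : Subgroup G) : Prop :=
  (∃ (K : Type) (_ : Field K) (_ : Finite K) (_ : CharP K 2) (k : ℕ),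
    0 < k ∧ Nonempty (NatKM K S P (zl S P) ⊥ k)) ∨
  ∃ k m : ℕ, 0 < k ∧ 2 ≤ m ∧ Nonempty (SymKM S P (zl S P) ⊥ k m)

/-- **The FF theorem for `V_P`.** -/
theorem concl (h : Ctx G) (D : DataZ (S : Subgroup G)) {P : Subgroup G} (hP : IsParS (S : Subgroup G) P)
    (hoff : ∃ A ≤ P, OffM (zl (S : Subgroup G) P) A) :
    NoOverM (zl (S : Subgroup G) P) P ∧ Tp (S : Subgroup G) P := by
  obtain ⟨hno, hcon⟩ := StarEnd.stmtM G (S : Subgroup G) P (MinSimple.EmptyTI.syl_of_le hP.le)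
    hP.toIsMinPar (hP.isLoc.char2 S h.char2) hoff
  refine ⟨hno, ?_⟩
  unfold ConclM at hcon
  rw [D.cv_eq h.char2 hP] at hcon
  exact hcon

end ff

section sit

variable {G : Type u} [Group G] [Finite G] {S : Sylow 2 G} {V F B P R : Subgroup G} {p : G}

theorem Sit.zc_inf (s : Sit S V F B P R p) : zc (S : Subgroup G) ⊓ F = ⊥ := by
  have h := s.spp 1 1 1 P (one_mem _) rfl s.hP (one_mem _)
  rwa [one_mul, map_one, one_smul] at h

theorem Sit.zc_ne_bot (s : Sit S V F B P R p) : zc (S : Subgroup G) ≠ ⊥ :=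
  MinSimple.Basic.zc_ne_bot S.isPGroup' (s.ctx.sylow_ne_bot S)

/-- `V ∩ B ≰ F` -/
theorem Sit.not_le (s : Sit S V F B P R p) : ¬ V ⊓ B ≤ F := by
  intro h
  refine s.zc_ne_bot (le_bot_iff.1 ?_)
  rw [← s.zc_inf]
  exact le_inf le_rfl (((MinSimple.VModule.zc_le_zl _ _).trans (le_inf s.RV s.RB)).trans h)

/-- **(nFF)** -/
theorem Sit.not_notFF (s : Sit S V F B P R p) : ¬ NotFF (zl (S : Subgroup G) P) :=
  NonFF.ff s.ctx.char2 s.hP (s.D.low P s.hP) s.flat s.BW s.FB s.comm s.XB s.not_le s.BS s.UV s.bad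

/-- `U = V_P` has an offender in `S`. -/
theorem Sit.exists_off (s : Sit S V F B P R p) :
    ∃ A : Subgroup G, A ≤ (S : Subgroup G) ∧ OffM (zl (S : Subgroup G) P) A :=
  Low.exists_off (s.hP.le.trans (MinSimple.VModule.le_normalizer_zl _ _)) s.not_notFF

/-- The type of the bad line. -/
theorem Sit.concl (s : Sit S V F B P R p) :
    NoOverM (zl (S : Subgroup G) P) P ∧ Tp (S : Subgroup G) P := by
  obtain ⟨A, hA, ho⟩ := s.exists_off
  exact Low.concl s.ctx s.D s.hP ⟨A, hA.trans s.hP.le, ho⟩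

end sit

/-- **P5**: `U` is an FF-module. -/
theorem p5 : StP5.{u} := by
  intro G _ _ S V F B P R p s
  obtain ⟨A, hA, ho⟩ := s.exists_off
  exact ⟨A, hA.trans s.hP.le, ho⟩

end Cfsg.Agent.Omega.NOThreeL.Low
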