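import Cfsg.Agent.Mrg.Omega.VP
import Cfsg.Agent.MinSimple.CaseD8


/-!
# NO-3L, THEOREM LOW (#19191, helper597), step (I2)

`F ≤ I`, `V_R = ⟨Ω₁(Z(S))^R⟩ ≤ I`, no point `Z^p` (`p ∈ R`) of the line `V_R` meets `F`, and `C_Z(R) = 1`: then
`|I : F| ≤ 2` is impossible.
-/

set_option autoImplicit false

namespace Cfsg.Agent.Omega.NOThreeL.Low.ITwo

open Subgroup Cfsg
open Cfsg.Agent.ZN (zc zl)
open Cfsg.Agent.MinSimple.VModule (zc_sq zc_le_zl le_normalizer_zl)

universe u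

variable {G : Type u} [Group G]

/-- In a group `I` with a subgroup `F` of index at most 2, the product of two elements outside `F` is in `F`. -/
theorem mul_mem_of_relIndex {F I : Subgroup G} (h0 : F.relIndex I ≠ 0) (h2 : F.relIndex I ≤ 2) {s t : G}
    (hs : s ∈ I) (ht : t ∈ I) (hsF : s ∉ F) (htF : t ∉ F) : s * t ∈ F := by
  have h3 : (F.subgroupOf I).index ≤ 2 := h2
  have h4 : (F.subgroupOf I).index ≠ 0 := h0
  have h5 : (F.subgroupOf I).index ≠ 1 := by
    intro h1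
    rw [index_eq_one] at h1
    have h6 : (⟨s, hs⟩ : I) ∈ F.subgroupOf I := by rw [h1]; exact mem_top _
    exact hsF (mem_subgroupOf.1 h6)
  have h6 : (F.subgroupOf I).index = 2 := by omega
  have h7 := (mul_mem_iff_of_index_two h6 (a := ⟨s, hs⟩) (b := ⟨t, ht⟩)).2
    ⟨fun h => absurd (mem_subgroupOf.1 h) hsF, fun h => absurd (mem_subgroupOf.1 h) htF⟩
  exact mem_subgroupOf.1 h7

/-- **(I2)** -/
theorem false_of_le_two [Finite G] {S : Sylow 2 G} {R F I : Subgroup G} (hSR : (S : Subgroup G) ≤ R)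
    (hne : zc (S : Subgroup G) ≠ ⊥) (hcz : zc (S : Subgroup G) ⊓ centralizer (R : Set G) = ⊥)
    (hVS : zl (S : Subgroup G) R ≤ (S : Subgroup G)) (hI : zl (S : Subgroup G) R ≤ I)
    (h2 : F.relIndex I ≤ 2)
    (hSS : ∀ p ∈ R, ∀ z ∈ zc (S : Subgroup G), p * z * p⁻¹ ∈ F → z = 1) : False := by
  classical
  have h0 : F.relIndex I ≠ 0 := by
    have : Finite (I ⧸ F.subgroupOf I) := inferInstance
    exact index_ne_zero_of_finite
  obtain ⟨z, hz, hz1⟩ : ∃ z ∈ zc (S : Subgroup G), z ≠ 1 := by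
    rcases bot_or_exists_ne_one (zc (S : Subgroup G)) with h | h
    · exact absurd h hne
    · exact h
  let SS : Set G := {y | ∃ p ∈ R, y = p * z * p⁻¹}
  have hSSV : ∀ y ∈ SS, y ∈ zl (S : Subgroup G) R := by
    rintro y ⟨p, hp, rfl⟩
    exact (mem_normalizer_iff.1 (le_normalizer_zl _ _ hp) z).1 (zc_le_zl _ _ hz)
  have hSSF : ∀ y ∈ SS, y ∉ F := by
    rintro y ⟨p, hp, rfl⟩ hF
    exact hz1 (hSS p hp z hz hF)
  have hSS2 : ∀ y ∈ SS, y * y = 1 := by
    rintro y ⟨p, hp, rfl⟩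
    have h1 := zc_sq _ z hz
    rw [pow_two] at h1
    calc p * z * p⁻¹ * (p * z * p⁻¹) = p * (z * z) * p⁻¹ := by group
      _ = 1 := by rw [h1]; group
  let D : Subgroup G := closure {y | ∃ s ∈ SS, ∃ t ∈ SS, y = s * t}
  have hDF : D ≤ F := by
    rw [closure_le]
    rintro y ⟨s, hs, t, ht, rfl⟩
    exact mul_mem_of_relIndex h0 h2 (hI (hSSV s hs)) (hI (hSSV t ht)) (hSSF s hs) (hSSF t ht)
  have hDS : D ≤ (S : Subgroup G) := by
    rw [closure_le]
    rintro y ⟨s, hs, t, ht, rfl⟩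
    exact hVS (mul_mem (hSSV s hs) (hSSV t ht))
  have hDR : R ≤ normalizer (D : Set G) := by
    have key : ∀ r ∈ R, ∀ d ∈ D, r * d * r⁻¹ ∈ D := by
      intro r hr d hd
      induction hd using closure_induction with
      | mem y hy =>
        obtain ⟨s, ⟨p, hp, rfl⟩, t, ⟨p', hp', rfl⟩, rfl⟩ := hy
        refine subset_closure ⟨_, ⟨r * p, mul_mem hr hp, rfl⟩, _, ⟨r * p', mul_mem hr hp', rfl⟩, ?_⟩
        group
      | one => simp
      | mul x y _ _ hx hy =>
        have e : r * (x * y) * r⁻¹ = r * x * r⁻¹ * (r * y * r⁻¹) := by group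
        rw [e]
        exact mul_mem hx hy
      | inv x _ hx =>
        have e : r * x⁻¹ * r⁻¹ = (r * x * r⁻¹)⁻¹ := by group
        rw [e]
        exact inv_mem hx
    intro r hr
    rw [mem_normalizer_iff]
    intro d
    refine ⟨key r hr d, fun h => ?_⟩
    have h1 := key r⁻¹ (inv_mem hr) _ h
    have e : r⁻¹ * (r * d * r⁻¹) * r⁻¹⁻¹ = d := by group
    rwa [e] at h1
  have hDne : D ≠ ⊥ := by
    intro hD
    have hzS : z ∈ SS := ⟨1, one_mem _, by simp⟩
    have h1 : ∀ p ∈ R, p * z * p⁻¹ = z := by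
      intro p hp
      have hs : p * z * p⁻¹ ∈ SS := ⟨p, hp, rfl⟩
      have h3 : p * z * p⁻¹ * z ∈ D := subset_closure ⟨_, hs, _, hzS, rfl⟩
      rw [hD, mem_bot] at h3
      have h4 := hSS2 z hzS
      calc p * z * p⁻¹ = p * z * p⁻¹ * (z * z) := by rw [h4, mul_one]
        _ = p * z * p⁻¹ * z * z := by group
        _ = z := by rw [h3, one_mul]
    have h2 : z ∈ zc (S : Subgroup G) ⊓ centralizer (R : Set G) := by
      refine ⟨hz, mem_centralizer_iff.2 fun p hp => ?_⟩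
      have h3 := h1 p hp
      calc p * z = p * z * p⁻¹ * p := by group
        _ = z * p := by rw [h3]
    rw [hcz, mem_bot] at h2
    exact hz1 h2
  obtain ⟨c, hcD, hcz, hc1⟩ := Cfsg.Agent.MinSimple.CaseD8.exists_mem_zc S.isPGroup' hDS (hSR.trans hDR) hDne
  exact hc1 (hSS 1 (one_mem _) c hcz (by simpa using hDF hcD))

end Cfsg.Agent.Omega.NOThreeL.Low.ITwo
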