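import Cfsg.Agent.Mrg.Omega.NOThreeL.Low.Defs
import Cfsg.Agent.Mrg.Omega.NOne.Flat.Off
import Cfsg.Agent.Mrg.Omega.NOThreeL.Low.ITwo
import Cfsg.Agent.Mrg.Omega.VP
import Cfsg.Agent.Mrg.Omega.NOThreeL.NF.Nat
import Cfsg.Agent.Mrg.Omega.Half.Basic

section


/-!
# THEOREM LOW (#19191, helper597), P4: consequences of (S++) for `Sit`

For `s : Sit S V F B P R p` (`I = V ⊓ B`):

* `Sit.bh` : 876's `Key.BH V F B`; `Sit.F_le_I`, `Sit.I_le_E`;
* `Sit.Z_ne`, `Sit.pt_U`, `Sit.pt_R`, `Sit.Z_inf_F` : no point of `U` or of `V_R` meets `F`;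
* `Sit.eq_bot_of_norm` : no nontrivial subgroup of `F` is normalised by `S`;
* `Sit.two_lt` **(I2)** : `2 < |B : B ∩ N|`; `Sit.two_lt'` : `2 < |I : F|`;
* `Sit.false_of_few` **(T1) + (I2)** : no `w ∈ V - E` has at most one other `B`-conjugate.
-/

set_option autoImplicit false

namespace Cfsg.Agent.Omega.NOThreeL.Low

open Subgroup Cfsg Cfsg.Agent.ZN Cfsg.Agent.Omega.MinPar Cfsg.Agent.Omega.Frame Cfsg.Agent.Omega.FrameNOFF
open Cfsg.Agent.Omega.NOne.Flat (Hyp EE WW NN BadX)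
open Cfsg.Agent.Omega.NoFF.Basic (mem_conj)
open scoped Pointwise

universe u

variable {G : Type u} [Group G] [Finite G] {S : Sylow 2 G} {V F B P R : Subgroup G} {p : G}

namespace Sit

variable (s : Sit S V F B P R p)
include s

/-- 876's structure. -/
theorem bh : Key.BH V F B := ⟨s.flat, s.BW, s.FB, s.comm, s.XB⟩

theorem F_le_V : F ≤ V := s.flat.bad.le

theorem F_le_I : F ≤ V ⊓ B := le_inf s.F_le_V s.FB

theorem F_le_S : F ≤ (S : Subgroup G) := s.F_le_V.trans s.VS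

theorem I_le_E : V ⊓ B ≤ EE V F := s.bh.I_le_E

theorem Z_ne : zc (S : Subgroup G) ≠ ⊥ := zc_ne_bot_of_par S s.hP.toIsPar

/-- The points of the lines `V_Q`, `Q ∈ P*`, through `Z` do not meet `F`. -/
theorem pt {Q : Subgroup G} (hQ : IsParS (S : Subgroup G) Q) {q : G} (hq : q ∈ Q) :
    MulAut.conj q • zc (S : Subgroup G) ⊓ F = ⊥ := by
  have := s.spp 1 1 q Q (one_mem _) rfl hQ hq
  rwa [one_mul] at this

/-- element form of `pt` -/
theorem pt' {Q : Subgroup G} (hQ : IsParS (S : Subgroup G) Q) {q : G} (hq : q ∈ Q) {z : G}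
    (hz : z ∈ zc (S : Subgroup G)) (hF : q * z * q⁻¹ ∈ F) : z = 1 := by
  have h1 : q * z * q⁻¹ ∈ MulAut.conj q • zc (S : Subgroup G) ⊓ F := mem_inf.2 ⟨mem_conj.2 (by simpa [mul_assoc] using hz), hF⟩
  rw [s.pt hQ hq, mem_bot] at h1
  have h2 : z = q⁻¹ * (q * z * q⁻¹) * q := by group
  rw [h2, h1]
  group

/-- `Z ∩ F = 1` -/
theorem Z_inf_F : zc (S : Subgroup G) ⊓ F = ⊥ := by
  have := s.pt s.hP (one_mem _)
  rwa [map_one, one_smul] at this

/-- **No nontrivial subgroup of `F` is normalised by `S`.** -/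
theorem eq_bot_of_norm {D : Subgroup G} (hDF : D ≤ F) (hn : (S : Subgroup G) ≤ normalizer (D : Set G)) :
    D = ⊥ := by
  by_contra hD
  obtain ⟨c, hc, hcz, hc1⟩ := Cfsg.Agent.MinSimple.CaseD8.exists_mem_zc S.isPGroup' (hDF.trans s.F_le_S) hn hD
  have h1 : c ∈ zc (S : Subgroup G) ⊓ F := ⟨hcz, hDF hc⟩
  rw [s.Z_inf_F, mem_bot] at h1
  exact hc1 h1

/-- **(I2)**: `2 < |I : F|` -/
theorem two_lt' : 2 < F.relIndex (V ⊓ B) := by
  by_contra h2
  exact ITwo.false_of_le_two (R := R) (F := F) (I := V ⊓ B) s.hR.le s.Z_ne (s.D.cz R s.hR) (s.RV.trans s.VS)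
    (le_inf s.RV s.RB) (not_lt.1 h2) fun q hq z hz hF => s.pt' s.hR hq hz hF

/-- **(I2)**: `2 < |B : B ∩ N|` -/
theorem two_lt : 2 < (NN V F).relIndex B := by
  rw [s.bh.relIndex_B]
  exact s.two_lt'

/-- **(T1) + (I2)**: no `w ∈ V - E` has at most one other `B`-conjugate. -/
theorem false_of_few {w : G} (hw : w ∈ V) (hwE : w ∉ EE V F)
    (h1 : ∀ b ∈ B, ∀ b' ∈ B, b * w * b⁻¹ ≠ w → b' * w * b'⁻¹ ≠ w → b * w * b⁻¹ = b' * w * b'⁻¹) : False :=
  absurd s.two_lt' (not_lt.2 (s.bh.relIndex_le_two hw hwE h1))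

end Sit

end Cfsg.Agent.Omega.NOThreeL.Low

end

section


/-!
# THEOREM LOW of NO-3L (#19191, helper597), P6: the bad line is not of symmetric type

`quad` : `[V, B, B] = 1`; `p6 : StP6`.
-/

set_option autoImplicit false
set_option maxHeartbeats 400000

namespace Cfsg.Agent.Omega.NOThreeL.Low.PSix

open Subgroup Cfsg
open Cfsg.Agent.ZN
open Cfsg.Agent.Omega.FFThm (OffM NatKM SymKM)
open Cfsg.Agent.Omega.NOne.Flat (Hyp EE WW NN)
open Cfsg.Agent.Omega.NOne.NearFF (c)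

universe u

variable {G : Type u} [Group G] [Finite G] {S : Sylow 2 G} {V F B P R : Subgroup G} {p : G}

/-- `[V, B, B] = 1` -/
theorem quad (s : Sit S V F B P R p) {w b b' : G} (hw : w ∈ V) (hb : b ∈ B) (hb' : b' ∈ B) :
    b' * (b * w * b⁻¹ * w⁻¹) = b * w * b⁻¹ * w⁻¹ * b' := by
  have h1 := s.bh.quad hw hb hb'
  have h2 : (c w b)⁻¹ = b * w * b⁻¹ * w⁻¹ := by rw [c]; group
  rw [← h2]
  calc b' * (c w b)⁻¹ = (c w b)⁻¹ * (c w b * b') * (c w b)⁻¹ := by group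
    _ = (c w b)⁻¹ * (b' * c w b) * (c w b)⁻¹ := by rw [h1]
    _ = (c w b)⁻¹ * b' := by group

/-- **P6**: `U` is not of symmetric type. -/
theorem p6 : StP6.{u} := by
  intro G _ _ S V F B P R p s k m _ _ M
  refine s.bad (SymCase.le_of_t1 M.toSymK s.hP.le (MinSimple.VModule.le_normalizer_zl _ _) s.BS ?_ ?_)
  · intro w hw b hb b' hb'
    exact quad s (s.UV hw) hb hb'
  · intro w hw hwE h1
    exact s.false_of_few (s.UV hw) hwE h1

end Cfsg.Agent.Omega.NOThreeL.Low.PSix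

end

section


/-!
# THEOREM LOW (#19191, helper597), P7 : the natural situation

* `two_lt` : (I2), `2 < |B : B ∩ N|`; `nc` : the same as "no `w ∈ U - E` has only one other conjugate" (T1);
* `p7a` : (T3), (T4): `B` acts on every bad block as a subgroup of the root group;
* `p7b` : (T5).
-/

set_option autoImplicit false
set_option linter.unusedSectionVars false

namespace Cfsg.Agent.Omega.NOThreeL.Low.PSeven

open Subgroup Cfsg Cfsg.Agent.ZN Cfsg.Agent.Omega.MinPar Cfsg.Agent.Omega.Frame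
open Cfsg.Agent.Omega.NOne.Flat (Hyp EE WW NN BadX)
open Cfsg.Agent.Omega.NOne.NearFF (c)
open Cfsg.Agent.Omega.FFThm (NatK NatKM SymKM ActsSL)
open Cfsg.Agent.Omega.Half (Amb amb_of_loc)
open Cfsg.Agent.Omega.Half.NatA (inj eq_one e_one e_inv Mv)
open Cfsg.Agent.Omega.NO1.NSix
open Cfsg.Agent.Omega.NatPair (ap ext2 ap_zero' ap_one' exists_ap ap_one)
open Cfsg.Agent.Lib.SL2Mat
open Cfsg.Agent.MinSimple.VModule (zc_le_zl)
open scoped Pointwise

universe u

section sit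

variable {G : Type u} [Group G] [Finite G] {S : Sylow 2 G} {V F B P R : Subgroup G} {p : G}

theorem mem_conj_of {x y : G} {A : Subgroup G} (h : y ∈ A) : x * y * x⁻¹ ∈ MulAut.conj x • A :=
  smul_mem_pointwise_smul y (MulAut.conj x) A h

/-- `BH` of `Low/Key`. -/
theorem bh (s : Sit S V F B P R p) : Key.BH V F B :=
  { s.flat with le_W := s.BW, F_le := s.FB, abel := s.comm, norm := s.XB }

theorem amb (s : Sit S V F B P R p) : Amb (S : Subgroup G) P (zl (S : Subgroup G) P) :=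
  amb_of_loc s.ctx.char2 S s.hP.toIsPar.isLoc

/-- **(I2)** -/
theorem two_lt (s : Sit S V F B P R p) : 2 < (NN V F).relIndex B := by
  by_contra hle
  push Not at hle
  refine ITwo.false_of_le_two (S := S) (R := R) (F := F) (I := V ⊓ B) s.hR.toIsPar.isLoc.le
    (MinSimple.Basic.zc_ne_bot S.isPGroup' (s.ctx.sylow_ne_bot S)) (s.D.cz R s.hR) (s.RV.trans s.VS)
    (le_inf s.RV s.RB) ?_ fun r hr z hz hF => ?_
  · rw [← (bh s).relIndex_B]
    exact hle
  · have h1 := s.spp 1 1 r R (one_mem P) rfl s.hR hr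
    rw [one_mul] at h1
    have h2 : r * z * r⁻¹ ∈ MulAut.conj r • zc (S : Subgroup G) ⊓ F := mem_inf.2 ⟨mem_conj_of hz, hF⟩
    rw [h1, mem_bot] at h2
    calc z = r⁻¹ * (r * z * r⁻¹) * r := by group
      _ = 1 := by rw [h2]; group

/-- `B` does not centralise `w ∈ V - E`. -/
theorem exists_moved (s : Sit S V F B P R p) {w : G} (hw : w ∈ V) (hwE : w ∉ EE V F) :
    ∃ b ∈ B, c w b ∉ F := by
  by_contra hall
  push Not at hall
  have h1 : B ≤ NN V F := fun b hb => (bh s).mem_NN_of_c hw hwE hb (hall b hb)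
  have h2 := two_lt s
  rw [relIndex_eq_one.2 h1] at h2
  omega

theorem qb (s : Sit S V F B P R p) : Nat.QB (S : Subgroup G) (zl (S : Subgroup G) P) B (EE V F) where
  BS := s.BS
  ab := fun _ hb _ hc => (bh s).B_comm hb hc
  sq := fun b hb => by rw [← pow_two]; exact s.sq b hb
  quad := fun v hv b hb c' hc => by
    have h1 := (bh s).quad (s.UV hv) hb hc
    have h2 : b * v * b⁻¹ * v⁻¹ = (c v b)⁻¹ := by rw [c]; group
    rw [h2]
    calc c' * (c v b)⁻¹ = (c v b)⁻¹ * (c v b * c') * (c v b)⁻¹ := by group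
      _ = (c v b)⁻¹ * (c' * c v b) * (c v b)⁻¹ := by rw [h1]
      _ = (c v b)⁻¹ * c' := by group
  t1 := fun w hw hwE hall => by
    have h1 := (bh s).relIndex_le_two (s.UV hw) hwE hall
    rw [← (bh s).relIndex_B] at h1
    exact absurd (two_lt s) (not_lt.2 h1)

end sit

/-! ### P7a -/

section pa

variable {G : Type u} [Group G] [Finite G] {S : Sylow 2 G} {V F B P R : Subgroup G} {p : G}
variable {K : Type} [Field K] {k : ℕ} (N : NatKM K (S : Subgroup G) P (zl (S : Subgroup G) P) ⊥ k)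

theorem blk_em {i : Fin k} {v : G} (hv : Blk N i v) : em N.toNatK i (N.e v i) = v := em_eq N.toNatK hv.1 hv.2

theorem em_blk (i : Fin k) (x : Fin 2 → K) : Blk N i (em N.toNatK i x) :=
  ⟨em_mem N.toNatK i x, fun _ hj => e_em_ne N.toNatK hj x⟩

end pa

/-- **P7a** -/
theorem p7a : StP7a.{u} := by
  intro G _ _ S V F B P R p s K _ _ _ k N i hbad b hb
  have hA := amb s
  have hQ := qb s
  have hi : Nat.Bad N.toNatK (EE V F) i := by
    obtain ⟨w, hw, hwE⟩ := hbad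
    refine ⟨N.e w i, ?_⟩
    rwa [blk_em N hw]
  obtain ⟨x, hx⟩ := hQ.exists_up hA hi hb
  refine ⟨x, fun v hv => ⟨⟨hA.conj_mem (hQ.BP hA hb) hv.1, fun j hj => ?_⟩, hx v hv.1⟩⟩
  obtain ⟨σ, hσ⟩ := N.perm b (hQ.BP hA hb)
  have hσi : σ i = i := hQ.fix hA hi hb hσ
  have h1 := (hσ v hv.1 (σ.symm j)).2 (hv.2 _ fun h2 => hj (by rw [← hσi, ← h2, σ.apply_symm_apply]))
  rwa [σ.apply_symm_apply] at h1

/-! ### P7b -/

section zz

variable {G : Type u} [Group G] [Finite G] {S : Sylow 2 G} {V F B P R : Subgroup G} {p : G}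
variable {K : Type} [Field K] {k : ℕ} (N : NatKM K (S : Subgroup G) P (zl (S : Subgroup G) P) ⊥ k)

/-- elements of `Z` have coordinates in the lines -/
theorem z_one {z : G} (hz : z ∈ zc (S : Subgroup G)) (j : Fin k) : N.e z j 1 = 0 := by
  have hzV := zc_le_zl (S : Subgroup G) P hz
  obtain ⟨t, ht, h1, -⟩ := N.unip fun _ => 1
  have h2 := h1 z hzV j
  rw [(MinSimple.VModule.mem_zc.1 hz).2.1 t ht, mul_inv_cancel_right] at h2
  have h3 := congrFun h2 0
  rw [ap_zero', up_00, up_01, one_mul, one_mul] at h3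
  exact left_eq_add.1 h3

/-- elements of `Z#` have full support -/
theorem z_ne {z : G} (hz : z ∈ zc (S : Subgroup G)) (hz1 : z ≠ 1) (j : Fin k) : N.e z j ≠ 0 := by
  have hzV := zc_le_zl (S : Subgroup G) P hz
  intro h0
  apply hz1
  apply eq_one N.toNatK hzV
  funext l
  obtain ⟨t, ht, h2⟩ := N.trans j l
  have h3 := h2 z hzV
  rw [(MinSimple.VModule.mem_zc.1 hz).2.1 t ht, mul_inv_cancel_right] at h3
  exact h3.2 h0

/-- Full-support vectors are in points of `U`. -/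
theorem full (s : Sit S V F B P R p) {v : G} (hv : v ∈ zl (S : Subgroup G) P) (h : ∀ j, N.e v j ≠ 0) :
    ∃ g ∈ P, v ∈ MulAut.conj g • zc (S : Subgroup G) := by
  have hne := MinSimple.Basic.zc_ne_bot S.isPGroup' (s.ctx.sylow_ne_bot S)
  obtain ⟨⟨z, hz⟩, hz1⟩ := ne_bot_iff_exists_ne_one.1 hne
  replace hz1 : z ≠ 1 := fun h1 => hz1 (Subtype.ext h1)
  have hzV := zc_le_zl (S : Subgroup G) P hz
  choose A hA using fun j => exists_ap (z_ne N hz hz1 j) (h j)
  obtain ⟨g, hg, hgA, -⟩ := N.lift A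
  refine ⟨g, hg, ?_⟩
  have h1 : g * z * g⁻¹ = v := by
    apply inj N.toNatK ((amb s).conj_mem hg hzV) hv
    funext j
    rw [hgA z hzV j, hA]
  rw [← h1]
  exact mem_conj_of hz

/-- `F ∩ U` has no full-support vector. -/
theorem nfull (s : Sit S V F B P R p) (hk : 0 < k) {f : G} (hf : f ∈ F) (hfU : f ∈ zl (S : Subgroup G) P) :
    ∃ j, N.e f j = 0 := by
  by_contra hall
  push Not at hall
  obtain ⟨g, hg, hfg⟩ := full N s hfU hall
  have h1 := s.spp g g 1 P hg rfl s.hP (one_mem P)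
  rw [mul_one] at h1
  have h2 : f ∈ MulAut.conj g • zc (S : Subgroup G) ⊓ F := mem_inf.2 ⟨hfg, hf⟩
  rw [h1, mem_bot] at h2
  apply hall ⟨0, hk⟩
  rw [h2, e_one N.toNatK]
  rfl

end zz

/-- `B` acts on block `i` by `up ∘ β`. -/
def Act {G : Type u} [Group G] {K : Type} [Field K] {S P U : Subgroup G} {k : ℕ} (N : NatKM K S P U ⊥ k)
    (B : Subgroup G) (i : Fin k) (β : G → K) : Prop :=
  ∀ b ∈ B, ∀ v, Blk N i v → Blk N i (b * v * b⁻¹) ∧ N.e (b * v * b⁻¹) i = ap (up (β b)) (N.e v i)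

section blk

variable {G : Type u} [Group G] {K : Type} [Field K] {S P U : Subgroup G} {k : ℕ} {N : NatKM K S P U ⊥ k}
variable {B : Subgroup G} {i : Fin k} {β : G → K}

theorem blk_mul {v w : G} (hv : Blk N i v) (hw : Blk N i w) : Blk N i (v * w) :=
  ⟨mul_mem hv.1 hw.1, fun j hj => by rw [N.mul v hv.1 w hw.1, Pi.add_apply, hv.2 j hj, hw.2 j hj, add_zero]⟩

theorem blk_inv {v : G} (hv : Blk N i v) : Blk N i v⁻¹ :=
  ⟨inv_mem hv.1, fun j hj => by rw [e_inv N.toNatK hv.1, Pi.neg_apply, hv.2 j hj, neg_zero]⟩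

theorem blk_ext {v w : G} (hv : Blk N i v) (hw : Blk N i w) (h0 : N.e v i 0 = N.e w i 0)
    (h1 : N.e v i 1 = N.e w i 1) : v = w := by
  apply inj N.toNatK hv.1 hw.1
  funext j
  by_cases hj : j = i
  · rw [hj]
    exact ext2 h0 h1
  · rw [hv.2 j hj, hw.2 j hj]

theorem blk_one : Blk N i 1 := ⟨one_mem _, fun j _ => by rw [e_one N.toNatK]; rfl⟩

theorem blk_eq_one {v : G} (hv : Blk N i v) (h0 : N.e v i 0 = 0) (h1 : N.e v i 1 = 0) : v = 1 :=
  blk_ext hv blk_one (by rw [h0, e_one N.toNatK]; rfl) (by rw [h1, e_one N.toNatK]; rfl)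

variable [CharP K 2]

theorem Act.c_blk (h : Act N B i β) {b v : G} (hb : b ∈ B) (hv : Blk N i v) : Blk N i (c v b) := by
  have e1 : c v b = v * (b * v * b⁻¹)⁻¹ := by rw [c]; group
  rw [e1]
  exact blk_mul hv (blk_inv (h b hb v hv).1)

theorem Act.c_zero (h : Act N B i β) {b v : G} (hb : b ∈ B) (hv : Blk N i v) :
    N.e (c v b) i 0 = β b * N.e v i 1 := by
  have e1 : c v b = v * (b * v * b⁻¹)⁻¹ := by rw [c]; group
  have h1 := h b hb v hv
  rw [e1, N.mul v hv.1 _ (inv_mem h1.1.1), e_inv N.toNatK h1.1.1, Pi.add_apply, Pi.neg_apply, h1.2, Pi.add_apply,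
    Pi.neg_apply, ap_zero', up_00, up_01, one_mul, CharTwo.neg_eq, ← add_assoc, CharTwo.add_self_eq_zero, zero_add]

theorem Act.c_one (h : Act N B i β) {b v : G} (hb : b ∈ B) (hv : Blk N i v) : N.e (c v b) i 1 = 0 := by
  have e1 : c v b = v * (b * v * b⁻¹)⁻¹ := by rw [c]; group
  have h1 := h b hb v hv
  rw [e1, N.mul v hv.1 _ (inv_mem h1.1.1), e_inv N.toNatK h1.1.1, Pi.add_apply, Pi.neg_apply, h1.2, Pi.add_apply,
    Pi.neg_apply, ap_one', up_10, up_11, zero_mul, zero_add, one_mul, add_neg_cancel]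

/-- `[v, b] = 1` if `β b = 0` or `v` is in the line -/
theorem Act.c_eq_one (h : Act N B i β) {b v : G} (hb : b ∈ B) (hv : Blk N i v) (h0 : β b * N.e v i 1 = 0) :
    c v b = 1 := blk_eq_one (h.c_blk hb hv) (by rw [h.c_zero hb hv, h0]) (h.c_one hb hv)

end blk

section pb

variable {G : Type u} [Group G] [Finite G] {S : Sylow 2 G} {V F B P R : Subgroup G} {p : G}
variable {K : Type} [Field K] [CharP K 2] {k : ℕ} {N : NatKM K (S : Subgroup G) P (zl (S : Subgroup G) P) ⊥ k}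
variable {i : Fin k} {β : G → K}

/-- `R_i ≤ E` for a bad block -/
theorem rt_le (s : Sit S V F B P R p) (h : Act N B i β) {r : G} (hr : Rtv N i r) : r ∈ EE V F := by
  by_contra hE
  obtain ⟨b, hb, hbF⟩ := exists_moved s (s.UV hr.1.1) hE
  apply hbF
  rw [h.c_eq_one hb hr.1 (by rw [hr.2, mul_zero])]
  exact one_mem F

theorem exists_beta (s : Sit S V F B P R p) (h : Act N B i β) (hbad : ∃ w, Blk N i w ∧ w ∉ EE V F) :
    ∃ b ∈ B, β b ≠ 0 := by
  obtain ⟨w, hw, hwE⟩ := hbad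
  obtain ⟨b, hb, hbF⟩ := exists_moved s (s.UV hw.1) hwE
  refine ⟨b, hb, fun h0 => hbF ?_⟩
  rw [h.c_eq_one hb hw (by rw [h0, zero_mul])]
  exact one_mem F

/-- `I ≤ R_i F` -/
theorem I_le (s : Sit S V F B P R p) (h : Act N B i β) (hbad : ∃ w, Blk N i w ∧ w ∉ EE V F) {a : G}
    (ha : a ∈ V ⊓ B) : ∃ r, Rtv N i r ∧ r⁻¹ * a ∈ F := by
  obtain ⟨w, hw, hwE⟩ := hbad
  obtain ⟨b, hb, hbF⟩ := (bh s).surj (s.UV hw.1) hwE ha
  exact ⟨c w b, ⟨h.c_blk hb hw, h.c_one hb hw⟩, hbF⟩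

/-- **(*)** -/
theorem zF (s : Sit S V F B P R p) (h : Act N B i β) (hbad : ∃ w, Blk N i w ∧ w ∉ EE V F) {z : G}
    (hz : z ∈ zc (S : Subgroup G)) : ∃ r, Rtv N i r ∧ N.e r i = N.e z i ∧ r⁻¹ * z ∈ F := by
  by_cases hz1 : z = 1
  · refine ⟨1, ⟨blk_one, by rw [e_one N.toNatK]; rfl⟩, by rw [hz1], ?_⟩
    rw [hz1, inv_one, one_mul]
    exact one_mem F
  · have hzU := zc_le_zl (S : Subgroup G) P hz
    have hzI : z ∈ V ⊓ B := mem_inf.2 ⟨s.UV hzU, s.RB (zc_le_zl (S : Subgroup G) R hz)⟩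
    obtain ⟨r, hr, hrF⟩ := I_le s h hbad hzI
    refine ⟨r, hr, ?_, hrF⟩
    obtain ⟨j, hj⟩ := nfull N s i.pos hrF (mul_mem (inv_mem hr.1.1) hzU)
    rw [N.mul _ (inv_mem hr.1.1) _ hzU, e_inv N.toNatK hr.1.1, Pi.add_apply, Pi.neg_apply] at hj
    by_cases hji : j = i
    · rw [hji, neg_add_eq_zero] at hj
      exact hj
    · rw [hr.1.2 j hji, neg_zero, zero_add] at hj
      exact absurd hj (z_ne N hz hz1 j)

/-- **(**)** `N_i ∩ F = 1` -/
theorem blkF (s : Sit S V F B P R p) (h : Act N B i β) (hbad : ∃ w, Blk N i w ∧ w ∉ EE V F) {v : G}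
    (hv : Blk N i v) (hvF : v ∈ F) : v = 1 := by
  by_contra hv1
  have hne := MinSimple.Basic.zc_ne_bot S.isPGroup' (s.ctx.sylow_ne_bot S)
  obtain ⟨⟨z, hz⟩, hz1⟩ := ne_bot_iff_exists_ne_one.1 hne
  replace hz1 : z ≠ 1 := fun h1 => hz1 (Subtype.ext h1)
  have hzU := zc_le_zl (S : Subgroup G) P hz
  obtain ⟨r, hr, hrz, hrF⟩ := zF s h hbad hz
  have hrU := mul_mem (inv_mem hr.1.1) hzU
  obtain ⟨j, hj⟩ := nfull N s i.pos (mul_mem hvF hrF) (mul_mem hv.1 hrU)
  rw [N.mul _ hv.1 _ hrU, N.mul _ (inv_mem hr.1.1) _ hzU, e_inv N.toNatK hr.1.1, Pi.add_apply, Pi.add_apply,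
    Pi.neg_apply] at hj
  by_cases hji : j = i
  · rw [hji, hrz, neg_add_cancel, add_zero] at hj
    exact hv1 (blk_eq_one hv (by rw [hj]; rfl) (by rw [hj]; rfl))
  · rw [hv.2 j hji, hr.1.2 j hji, neg_zero, zero_add, zero_add] at hj
    exact absurd hj (z_ne N hz hz1 j)

/-- `N_i ∩ E = R_i` -/
theorem blkE (s : Sit S V F B P R p) (h : Act N B i β) (hbad : ∃ w, Blk N i w ∧ w ∉ EE V F) {v : G}
    (hv : Blk N i v) : v ∈ EE V F ↔ N.e v i 1 = 0 := by
  refine ⟨fun hE => ?_, fun h1 => rt_le s h ⟨hv, h1⟩⟩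
  obtain ⟨b, hb, hb0⟩ := exists_beta s h hbad
  have h1 : c v b = 1 := blkF s h hbad (h.c_blk hb hv) (s.flat.comm_EW hE (s.BW hb))
  have h2 := h.c_zero hb hv
  rw [h1, e_one N.toNatK] at h2
  exact (mul_eq_zero.1 h2.symm).resolve_left hb0

/-- `C_B(N_i) = B ∩ N` -/
theorem βN (s : Sit S V F B P R p) (h : Act N B i β) (hbad : ∃ w, Blk N i w ∧ w ∉ EE V F) {b : G}
    (hb : b ∈ B) : β b = 0 ↔ b ∈ NN V F := by
  obtain ⟨w, hw, hwE⟩ := id hbad
  have hwV := s.UV hw.1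
  rw [← s.flat.c_mem_F_iff hwV hwE (s.BW hb)]
  constructor
  · intro h0
    rw [h.c_eq_one hb hw (by rw [h0, zero_mul])]
    exact one_mem F
  · intro hF
    have h1 : c w b = 1 := blkF s h hbad (h.c_blk hb hw) hF
    have h2 := h.c_zero hb hw
    rw [h1, e_one N.toNatK] at h2
    exact (mul_eq_zero.1 h2.symm).resolve_right fun h3 => hwE ((blkE s h hbad hw).2 h3)

/-- `R_i ∩ I = λ β(B)` for all `λ ≠ 0` -/
theorem exists_of_I (s : Sit S V F B P R p) (h : Act N B i β) (hbad : ∃ w, Blk N i w ∧ w ∉ EE V F) {l : K}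
    (hl : l ≠ 0) {r : G} (hr : Rtv N i r) (hrB : r ∈ B) : ∃ b ∈ B, β b * l = N.e r i 0 := by
  have hw := em_blk N i ![0, l]
  have hw1 : N.e (em N.toNatK i ![0, l]) i 1 = l := by rw [e_em_self]; rfl
  have hwE : em N.toNatK i ![0, l] ∉ EE V F := by
    rw [blkE s h hbad hw, hw1]
    exact hl
  obtain ⟨b, hb, hbF⟩ := (bh s).surj (s.UV hw.1) hwE (mem_inf.2 ⟨s.UV hr.1.1, hrB⟩)
  have h1 := blkF s h hbad (blk_mul (blk_inv (h.c_blk hb hw)) hr.1) hbF
  rw [inv_mul_eq_one] at h1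
  refine ⟨b, hb, ?_⟩
  rw [← h1, h.c_zero hb hw, hw1]

theorem βsurj (s : Sit S V F B P R p) (h : Act N B i β) (hbad : ∃ w, Blk N i w ∧ w ∉ EE V F) (x : K) :
    ∃ b ∈ B, β b = x := by
  by_cases hx : x = 0
  · exact ⟨1, one_mem B, by rw [hx, βN s h hbad (one_mem B)]; exact one_mem _⟩
  obtain ⟨b0, hb0, hb0'⟩ := exists_beta s h hbad
  -- `r = [w, b0]`, `w = (0, 1)`
  have hw := em_blk N i ![0, 1]
  have hw1 : N.e (em N.toNatK i ![0, 1]) i 1 = 1 := by rw [e_em_self]; rfl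
  have hr : Rtv N i (c (em N.toNatK i ![0, 1]) b0) := ⟨h.c_blk hb0 hw, h.c_one hb0 hw⟩
  have hrB := ((bh s).c_memI (s.UV hw.1) hb0).2
  obtain ⟨b, hb, hbx⟩ := exists_of_I s h hbad (l := β b0 / x) (div_ne_zero hb0' hx) hr hrB
  rw [h.c_zero hb0 hw, hw1, mul_one] at hbx
  refine ⟨b, hb, ?_⟩
  field_simp at hbx
  exact hbx

theorem rtB (s : Sit S V F B P R p) (h : Act N B i β) (hbad : ∃ w, Blk N i w ∧ w ∉ EE V F) {r : G}
    (hr : Rtv N i r) : r ∈ B := by
  obtain ⟨b, hb, hbx⟩ := βsurj s h hbad (N.e r i 0)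
  have hw := em_blk N i ![0, 1]
  have hw1 : N.e (em N.toNatK i ![0, 1]) i 1 = 1 := by rw [e_em_self]; rfl
  have h1 : c (em N.toNatK i ![0, 1]) b = r := by
    refine blk_ext (h.c_blk hb hw) hr.1 ?_ ?_
    · rw [h.c_zero hb hw, hw1, mul_one, hbx]
    · rw [h.c_one hb hw, hr.2]
  rw [← h1]
  exact ((bh s).c_memI (s.UV hw.1) hb).2

theorem βmul (h : Act N B i β) {b b' : G} (hb : b ∈ B) (hb' : b' ∈ B) :
    β (b * b') = β b + β b' := by
  have hw := em_blk N i ![0, 1]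
  have h1 := h b' hb' _ hw
  have h2 := h b hb _ h1.1
  have h3 := h (b * b') (mul_mem hb hb') _ hw
  have e1 : b * (b' * em N.toNatK i ![0, 1] * b'⁻¹) * b⁻¹ = b * b' * em N.toNatK i ![0, 1] * (b * b')⁻¹ := by group
  rw [e1] at h2
  have h4 := congrFun (h2.2.symm.trans h3.2) 0
  rw [ap_zero', ap_zero', h1.2, ap_zero', ap_one', e_em_self] at h4
  simp only [up_00, up_01, up_10, up_11] at h4
  simp at h4
  rw [← h4, add_comm]

theorem card_eq (s : Sit S V F B P R p) (h : Act N B i β) (hbad : ∃ w, Blk N i w ∧ w ∉ EE V F) :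
    (NN V F).relIndex B = Nat.card K := by
  let φ : B →* Multiplicative K :=
    { toFun := fun b => Multiplicative.ofAdd (β b)
      map_one' := by
        have h1 : β 1 = 0 := by rw [βN s h hbad (one_mem B)]; exact one_mem _
        simp [h1]
      map_mul' := fun b b' => by
        rw [coe_mul, βmul h b.2 b'.2]
        rfl }
  have hφ : Function.Surjective φ := by
    intro x
    obtain ⟨b, hb, hx⟩ := βsurj s h hbad (Multiplicative.toAdd x)
    exact ⟨⟨b, hb⟩, by show Multiplicative.ofAdd (β b) = x; rw [hx]; rfl⟩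
  have hker : φ.ker = (NN V F).subgroupOf B := by
    ext b
    rw [MonoidHom.mem_ker, mem_subgroupOf, ← βN s h hbad b.2]
    exact Multiplicative.ofAdd.injective.eq_iff' rfl
  rw [relIndex, ← hker, index_ker, MonoidHom.range_eq_top.2 hφ, card_top]
  exact Nat.card_congr Multiplicative.toAdd

end pb

/-- **P7b** -/
theorem p7b : StP7b.{u} := by
  intro G _ _ S V F B P R p s K _ _ _ k N hk hact
  -- the functions `β`
  have hact' : ∀ j : Fin k, (∃ w, Blk N j w ∧ w ∉ EE V F) → ∃ β : G → K, Act N B j β := by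
    classical
    intro j hj
    choose x hx using hact j hj
    refine ⟨fun b => if hb : b ∈ B then x b hb else 0, fun b hb v hv => ?_⟩
    have h1 := hx b hb v hv
    simp only [dif_pos hb]
    exact h1
  -- a bad block
  obtain ⟨i, hbad⟩ : ∃ i : Fin k, ∃ w, Blk N i w ∧ w ∉ EE V F := by
    by_contra hall
    push Not at hall
    exact s.bad fun v hv => mem_of_em N.toNatK hv fun j => hall j _ (em_blk N j _)
  obtain ⟨β, h⟩ := hact' i hbad
  refine ⟨i, β, { s with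
    bad_i := hbad
    βmul := fun b hb b' hb' => βmul h hb hb'
    βsurj := βsurj s h hbad
    βN := fun b hb => βN s h hbad hb
    act := h
    blkE := fun v hv => blkE s h hbad hv
    blkF := fun v hv hvF => blkF s h hbad hv hvF
    rtB := fun v hv => rtB s h hbad hv
    rtE := fun v hv h1 => mem_of_em N.toNatK hv fun j => ?_
    I := fun a ha => I_le s h hbad ha
    card := card_eq s h hbad
    zF := fun z hz => zF s h hbad hz
    nfull := fun f hf hfU => nfull N s hk hf hfU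
    full := fun v hv hv1 => full N s hv hv1 }⟩
  by_cases hj : ∃ w, Blk N j w ∧ w ∉ EE V F
  · obtain ⟨γ, hγ⟩ := hact' j hj
    exact rt_le s hγ ⟨em_blk N j _, by rw [e_em_self]; exact h1 j⟩
  · by_contra hE
    exact hj ⟨_, em_blk N j _, hE⟩

end Cfsg.Agent.Omega.NOThreeL.Low.PSeven

end
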