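import Cfsg.Agent.Mrg.Omega.NOThreeL.Low.Glue
import Cfsg.Agent.Mrg.Omega.Spread.Plug
import Cfsg.Agent.Mrg.Omega.NOThreeL.Low.Dich
import Cfsg.Agent.Mrg.Omega.NOThreeL.Low.SitTwo
import Cfsg.Agent.Mrg.Omega.NOThreeL.Low.Torus
import Cfsg.Agent.Mrg.Omega.NOThreeL.Low.Defs


/-!
# THEOREM LOW (#19191, helper597)

* `parts` : all parts are theorems (helper368, 223, 920, 934, 661, 528, 342, 700, 770, 876, 652);
* `zl_MZ_le` : in NO-3L with `C_Z(P) = 1` for all `P ∈ P*(S)`: `⟨Z^⟨P*(S)⟩⟩ ≤ O₂(C_G(Z))`;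
* `low_all` : the socket `Merge.LOW K` for every `K`.
-/

set_option autoImplicit false

namespace Cfsg.Agent.Omega.NOThreeL.Low

open Subgroup Cfsg Cfsg.Agent.ZN Cfsg.Agent.Omega.MinPar Cfsg.Agent.Omega.Frame Cfsg.Agent.Omega.FrameNOFF
open Cfsg.Agent.Omega.NOThreeL.Basic (DataZ)
open Cfsg.Agent.Omega.NOThreeL.Merge (MZ)

universe u

theorem parts : Parts.{u} where
  p1 := p1
  p2 := p2
  p5 := p5
  p6 := PSix.p6
  p7a := PSeven.p7a
  p7b := PSeven.p7b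
  p8 := p8
  p9a := CE.p9a
  p9b := EqB.p9b
  p9c := p9c

/-- **THEOREM LOW.** -/
theorem zl_MZ_le {G : Type u} [Group G] [Finite G] {S : Sylow 2 G} (hG : Ctx G) (hF : Full (S : Subgroup G))
    (D : DataZ (S : Subgroup G)) :
    zl (S : Subgroup G) (MZ (S : Subgroup G)) ≤ o2 (CZ (S : Subgroup G)) := low_of parts hG hF D

/-- **The socket `Merge.LOW`.** -/
theorem low_all (K : Cls.{u}) : Merge.LOW K := low parts K

end Cfsg.Agent.Omega.NOThreeL.Low
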